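import Cfsg.Agent.H51.Ore.Ru.C10a_mg_m3
import Cfsg.Agent.Prune
set_option linter.all false

section
prune_inst 0x7f00000000000000000000000000000000000000000000000000000000000000000000000000000000000000000000000000000000000000000000000000000000000000000000000000000000000000003fffffffffffffffffffffffffffbeffbdffffffff

-- part: H51/Ore/Ru/C4c
section
set_option linter.all false

/-!
# The classes of the Rudvalis group: class 4c (helper51)

Generated certificates: for a representative `w` the masks of the points adjacent to their images under `w`, `w²`, `w³`,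
a bound of the centralizer, the invariants, and the form of a commutator.
-/

set_option autoImplicit false
set_option maxRecDepth 100000
set_option exponentiation.threshold 5000

namespace Cfsg.Agent.H51.Ore.Ru

open Cfsg.Agent.Lib Cfsg.Agent.Lib.BitNet Cfsg.Agent.SporadicB Cfsg.Agent.SporadicB.RuData
open Cfsg.Agent.SporadicB.RuOrder Cfsg.Agent.RuD.Data Cfsg.Agent.SporRec.TCUpperCert Cfsg.Agent.SporRec.R3.Kernel
open Cfsg.Agent.RuD.Letters Cfsg.Agent.KFacts.Ru.CentEng Cfsg.Agent.CpAutRuFive.Eng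

/-! ### class 4c -/

def m1_4c : ℕ := 0xf13c14204103ac2270bcfef2b5d0b878378285c2213366200b470ba278279737b606419ece018284d84c6a0f272c31468295858501313f6b617122c01e193c315421e83430a9115c91cc873aaca2e59ee45647b967ebd26b0a50b2ffb006968b6d50803ff6b6b16395738c4ac4925e7c67234478126fb178a6c0b8e0446f7880663f6013ffa4ce5b01510f78d2301bdc23a39ec510c2393c18b13c0018142ba912f30a4a126a4c7c15e9370a3fb3f001637442da8264a5c27bd21148a165006b50c0640830b4dbab402ab17fe61af3bc33369bbd6a7c441e1e918ef1b2883ff630ae04a759994f97af1b2a1759734e3cb1d3c25c27cb0ca2b709f4468fcb9c119319a242925ae60bbce430ee28b80922773957003352942a09911a394948e4a5b2bdfa463c613891b2a1e60d1926e136ca0b67ae87c4351988610c85ebc6e805217cfe88d0f9b8cfcd6c022445929364964dc0051a54240e568b2e2101423413cac8299dea9660c77342e4627489a7f44aa5a6b64fc00e37e83d896aac4aeb2529a195b06f523665c9f0d9818cbc7446c3176bd222c12c15e3d376c813017feb0c5ec61cf9ee5206e634ab17c8f6aa462bd1e5d9526491b52d636b167d90f457fe85f12a860eff8660e7bb2c0d57f209040eea0cc553c65fa84f2fc2869a6014b1404d7811b1fa9e89ca90bd7ed016df4e2ad4199793c7d620edf1a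

def m2_4c : ℕ := 0x44c3ea5775fc4c49935ef71013016028917d70db879be9994cc8e06c20a1f9431f98bf47b9f817c14528a12978d60da60990e88a1c6d940f2d12f821f048839cc29d932649471b01ae3e5d1bed27b6c4e3ed6a7cd62ddb42e9a2ad33ba2589b40fec3f5169fc169d8c3679e6643c19f910d2e393b29cfa157a810756f2814d12b6d3174343c55296aa7444bc9bc92c37380450ad509ee2137019f4ed2cf811585b023cd1a14154c3e793e9d69c43d42a02f90e4d304a42340cf67389d252f3050772ea23cf0db447bb53de3662f6c1a93ef807c5e532464900681d45d704c97bfc40e9c8c94107674405fcc1b50e6184ee0eb3d371dad1501c489bead4a14ba4ac4a487b4ffe77ee66f67c068d1944a1b928f811999a6e44b90ec52a2ae3b17640240de0bfcda95f84bd10e5233f1ae5b8bc0850dd8fc84a95b5d9d4d518a00a5b715498f07c11c911f1e08613b5fbca45265947f18bd1c68bc665acfd145def876e0b66c52015f42c9f7abca360318aae5b1b2071c7e2d8b0d37559510d404937f1c04a17a9105ef824f4375638862104a094173fd652d2b90c79b62cbaa84d621246f6ab763c511fa60ebfb9c9a4ae260f086ad592a872dbdf96850d52115a08643490c3d08a48cf1b1cc630e13943abd985dc5bfd2662a8701a00a7d42de3078fb21706fac0b513e04e440239c2c19c6ead5c3130298089ca350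

def m3_4c : ℕ := 0xf13c14204103ac2270bcfef2b5d0b878378285c2213366200b470ba278279737b606419ece018284d84c6a0f272c31468295858501313f6b617122c01e193c315421e83430a9115c91cc873aaca2e59ee45647b967ebd26b0a50b2ffb006968b6d50803ff6b6b16395738c4ac4925e7c67234478126fb178a6c0b8e0446f7880663f6013ffa4ce5b01510f78d2301bdc23a39ec510c2393c18b13c0018142ba912f30a4a126a4c7c15e9370a3fb3f001637442da8264a5c27bd21148a165006b50c0640830b4dbab402ab17fe61af3bc33369bbd6a7c441e1e918ef1b2883ff630ae04a759994f97af1b2a1759734e3cb1d3c25c27cb0ca2b709f4468fcb9c119319a242925ae60bbce430ee28b80922773957003352942a09911a394948e4a5b2bdfa463c613891b2a1e60d1926e136ca0b67ae87c4351988610c85ebc6e805217cfe88d0f9b8cfcd6c022445929364964dc0051a54240e568b2e2101423413cac8299dea9660c77342e4627489a7f44aa5a6b64fc00e37e83d896aac4aeb2529a195b06f523665c9f0d9818cbc7446c3176bd222c12c15e3d376c813017feb0c5ec61cf9ee5206e634ab17c8f6aa462bd1e5d9526491b52d636b167d90f457fe85f12a860eff8660e7bb2c0d57f209040eea0cc553c65fa84f2fc2869a6014b1404d7811b1fa9e89ca90bd7ed016df4e2ad4199793c7d620edf1a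

def i_4c : List St := [
  .and 2 2, .diff 0 2, .cnt 4 817, .and 0 1, .base 0 1, .and 6 6, .and 0 5, .and 0 3, .diff 0 6, .diff 0 6,
  .cnt 1 54, .and 0 1, .pt 0 398, .and 16 16, .and 0 5, .and 0 3, .and 0 17, .diff 0 17, .diff 0 28, .diff 0 28,
  .diff 0 22, .and 0 11, .pt 0 3788, .and 21 21, .and 0 5, .and 0 18, .and 0 21, .diff 0 19, .pt 0 114, .and 8 8,
  .diff 0 26, .diff 0 5, .diff 0 4, .pt 0 3779, .and 39 39, .and 0 32, .and 0 24, .diff 0 15, .pt 0 1521,
  .and 25 25, .and 0 23, .diff 0 48, .pt 0 2581]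

/-- representative -/
def w_4c : List ℕ := [5, 0, 4, 3, 1, 7, 0, 5, 3, 6, 7, 8]

theorem a1_4c : chkAdj (rpw w_4c 1) m1_4c = true := by decide +kernel
theorem a2_4c : chkAdj (rpw w_4c 2) m2_4c = true := by decide +kernel
theorem a3_4c : chkAdj (rpw w_4c 3) m3_4c = true := by decide +kernel
theorem r_4c : run w_4c i_4c [m1_4c, m2_4c, m3_4c] = some 1024 := by decide +kernel
theorem g_4c : Good (wprod ml w_4c) :=
  good_of (t := [5]) (u := [0]) (b := [4, 3, 1, 7]) (b' := [3, 6, 7, 8]) (by decide +kernel) rfl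

/-- **the class 4c** -/
theorem ok_4c : Cl.OK ⟨w_4c, 1024, (768, 1880)⟩ :=
  ok_c a1_4c a2_4c a3_4c (by decide +kernel) (by decide +kernel) (by decide +kernel)
    (by simp) r_4c g_4c

end Cfsg.Agent.H51.Ore.Ru
end

-- part: H51/Ore/Ru/C3a
section
set_option linter.all false
open scoped Cfsg.Agent.FastGrp

/-!
# The classes of the Rudvalis group: class 3a (helper51)

Generated certificates: for a representative `w` the masks of the points adjacent to their images under `w`, `w²`, `w³`,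
a bound of the centralizer, the invariants, and the form of a commutator.
-/

set_option autoImplicit false
set_option maxRecDepth 100000
set_option exponentiation.threshold 5000

namespace Cfsg.Agent.H51.Ore.Ru

open Cfsg.Agent.Lib Cfsg.Agent.Lib.BitNet Cfsg.Agent.SporadicB Cfsg.Agent.SporadicB.RuData
open Cfsg.Agent.SporadicB.RuOrder Cfsg.Agent.RuD.Data Cfsg.Agent.SporRec.TCUpperCert Cfsg.Agent.SporRec.R3.Kernel
open Cfsg.Agent.RuD.Letters Cfsg.Agent.KFacts.Ru.CentEng Cfsg.Agent.CpAutRuFive.Eng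

/-! ### class 3a -/

def m1_3a : ℕ := 0x7b2231e007c430650bdb2a2a8bcaa064c5d410531fe9412452b5ae77eed6c7af2924d50dc064611f3278f32943cd9871b3127955014f2396685155406f3686d1a4b908fa698e5401f55095b7d469d6ba96f96e39b77f2448077042e428c27518b557391182cc193c453695672a85b558c08dbbc8e6c88cf72ac71983af98ed15379546c01cc11e8f4050dc4367560e208b3a0323d567966b441364c240eab3eb435543059e7c45fd56f9ec1949eb143abf525457a12a0989ac8461f566e8a0b3087ccda5789f3140abb482bfcd69d704b41afde69205768651f42138b47c9ea173806ab23337e78a2a087aa5336aeebcb308c029a3fe14ebfba4ff523f4a425b3aa6a8e71cc8c7e4568200024936daaa3dd4135cabe4ed1e81e79d40b13c9b85ee8403305184d83858204b0101350c670e9b9dbb4436977834898f8d7072c61f58144cc6d6b2614e11e087db0a99b9a73873d0d5dc68e6f014b93db869c13153e22d3b1d0e9f53ac723fbb1a247430d857850ade80597b3e0a07b0e681c277417899adcc844c18b1aaa010764226fbe1f3a821550b0a54180ca3ad9e3bbd91faf85a181fdbe082491e10a5052ce50a542327ca2ad68614518c34865039c4816b2ea5d761a272810209eacd168d5218f97628526281fb03a40990afb93b7313250519fa0d227438e0547aee38fc6766c8547600cd7209a5194bc5e07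

def m2_3a : ℕ := 0x7b2231e007c430650bdb2a2a8bcaa064c5d410531fe9412452b5ae77eed6c7af2924d50dc064611f3278f32943cd9871b3127955014f2396685155406f3686d1a4b908fa698e5401f55095b7d469d6ba96f96e39b77f2448077042e428c27518b557391182cc193c453695672a85b558c08dbbc8e6c88cf72ac71983af98ed15379546c01cc11e8f4050dc4367560e208b3a0323d567966b441364c240eab3eb435543059e7c45fd56f9ec1949eb143abf525457a12a0989ac8461f566e8a0b3087ccda5789f3140abb482bfcd69d704b41afde69205768651f42138b47c9ea173806ab23337e78a2a087aa5336aeebcb308c029a3fe14ebfba4ff523f4a425b3aa6a8e71cc8c7e4568200024936daaa3dd4135cabe4ed1e81e79d40b13c9b85ee8403305184d83858204b0101350c670e9b9dbb4436977834898f8d7072c61f58144cc6d6b2614e11e087db0a99b9a73873d0d5dc68e6f014b93db869c13153e22d3b1d0e9f53ac723fbb1a247430d857850ade80597b3e0a07b0e681c277417899adcc844c18b1aaa010764226fbe1f3a821550b0a54180ca3ad9e3bbd91faf85a181fdbe082491e10a5052ce50a542327ca2ad68614518c34865039c4816b2ea5d761a272810209eacd168d5218f97628526281fb03a40990afb93b7313250519fa0d227438e0547aee38fc6766c8547600cd7209a5194bc5e07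

def m3_3a : ℕ := 0x0

def i_3a : List St := [
  .and 0 0, .cnt 1 822, .and 0 1, .base 0 0, .and 6 6, .and 0 4, .diff 0 6, .diff 0 5, .cnt 1 104, .and 0 1,
  .base 0 2549, .and 7 7, .and 0 4, .diff 0 6, .diff 0 5, .cnt 11 64, .and 0 1, .pt 0 3706, .and 6 6, .and 0 29,
  .and 0 16, .and 0 29, .and 0 8, .diff 0 30, .pt 0 137, .and 8 8, .and 0 5, .and 0 15, .pt 0 3414, .and 26 26,
  .and 0 13, .diff 0 25, .and 0 24, .diff 0 8, .pt 0 646, .and 38 38, .and 0 4, .diff 0 16, .diff 0 25,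
  .diff 0 36, .pt 0 2946]

/-- representative -/
def w_3a : List ℕ := [5, 2, 0, 2, 5, 0]

theorem a1_3a : chkAdj (rpw w_3a 1) m1_3a = true := by decide +kernel
theorem a2_3a : chkAdj (rpw w_3a 2) m2_3a = true := by decide +kernel
theorem a3_3a : chkAdj (rpw w_3a 3) m3_3a = true := by decide +kernel
private noncomputable def _root_.Cfsg.Agent.KO5caddd0.k0 : (by first | exact type_of% @Cfsg.Agent.Lib.BitNetSimple.force | exact Unit : Sort _) := by first | (refine @Subtype.val _ (fun g => @Cfsg.Agent.Lib.BitNetSimple.force = @g) (@Subtype.mk _ _ (@(fun x0 x1 x2 => @Nat.rec.{1} @(fun x3 => @x0) (@x2 (nat_lit 0)) @(fun x3 x4 => @x2 (@Nat.succ @x3)) @x1)) ?_); rfl') | exact @Cfsg.Agent.Lib.BitNetSimple.force | exact ()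
private theorem _root_.Cfsg.Agent.KO5caddd0.e0 : (by first | exact @Cfsg.Agent.Lib.BitNetSimple.force = @_root_.Cfsg.Agent.KO5caddd0.k0 | exact True : Prop) := by first | (delta _root_.Cfsg.Agent.KO5caddd0.k0; exact @Subtype.property _ (fun g => @Cfsg.Agent.Lib.BitNetSimple.force = @g) _) | rfl | trivial
private noncomputable def _root_.Cfsg.Agent.KO5caddd0.k8 : (by first | exact type_of% @Cfsg.Agent.SporadicB.RuData.rotB | exact Unit : Sort _) := by first | (refine @Subtype.val _ (fun g => @Cfsg.Agent.SporadicB.RuData.rotB = @g) (@Subtype.mk _ _ (@(fun x0 x1 => @Nat.lor (@Nat.shiftLeft (@Nat.land @x1 (@Nat.mul (@Nat.sub (@Nat.pow (nat_lit 2) (@Nat.sub (nat_lit 29) @x0)) (nat_lit 1)) (@Nat.div (@Nat.sub (@Nat.pow (nat_lit 2) (nat_lit 4060)) (nat_lit 1)) (nat_lit 536870911)))) @x0) (@Nat.land (@Nat.shiftRight @x1 (@Nat.sub (nat_lit 29) @x0)) (@Nat.mul (@Nat.sub (@Nat.pow (nat_lit 2) @x0) (nat_lit 1)) (@Nat.div (@Nat.sub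 (@Nat.pow (nat_lit 2) (nat_lit 4060)) (nat_lit 1)) (nat_lit 536870911)))))) ?_); rfl') | exact @Cfsg.Agent.SporadicB.RuData.rotB | exact ()
private theorem _root_.Cfsg.Agent.KO5caddd0.e8 : (by first | exact @Cfsg.Agent.SporadicB.RuData.rotB = @_root_.Cfsg.Agent.KO5caddd0.k8 | exact True : Prop) := by first | (delta _root_.Cfsg.Agent.KO5caddd0.k8; exact @Subtype.property _ (fun g => @Cfsg.Agent.SporadicB.RuData.rotB = @g) _) | rfl | trivial
private noncomputable def _root_.Cfsg.Agent.KO5caddd0.k9 : (by first | exact type_of% @Cfsg.Agent.SporadicB.RuData.row | exact Unit : Sort _) := by first | (refine @Subtype.val _ (fun g => @Cfsg.Agent.SporadicB.RuData.row = @g) (@Subtype.mk _ _ (@(fun x0 => @Cfsg.Agent.KO5caddd0.k8 (@Nat.mod @x0 (nat_lit 29)) (@Nat.mod (@Nat.shiftRight @Cfsg.Agent.SporadicB.RuData.R (@Nat.mul (nat_lit 4096) (@Nat.div @x0 (nat_lit 29)))) (@Nat.pow (nat_lit 2) (nat_lit 4096))))) ?_); rewrite [← Cfsg.Agent.KO5caddd0.e8];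 (try delta Cfsg.Agent.SporadicB.RuData.row); (try generalize @Cfsg.Agent.SporadicB.RuData.rotB = g0); (try generalize @Cfsg.Agent.SporadicB.RuData.R = g1); rfl') | exact @Cfsg.Agent.SporadicB.RuData.row | exact ()
private theorem _root_.Cfsg.Agent.KO5caddd0.e9 : (by first | exact @Cfsg.Agent.SporadicB.RuData.row = @_root_.Cfsg.Agent.KO5caddd0.k9 | exact True : Prop) := by first | (delta _root_.Cfsg.Agent.KO5caddd0.k9; exact @Subtype.property _ (fun g => @Cfsg.Agent.SporadicB.RuData.row = @g) _) | rfl | trivial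
private theorem _root_.Cfsg.Agent.KO5caddd0.e12.{ku} {M : Nat → Sort ku} (φ : ∀ n, M n) {z : M Nat.zero} {s : ∀ n, M n → M (Nat.succ n)} (h0 : φ Nat.zero = z) (hs : ∀ n, φ (Nat.succ n) = s n (φ n)) (n : Nat) : φ n = @Nat.rec M z s n := Nat.rec h0 (fun n ih => (hs n).trans (congrArg (s n) ih)) n
private theorem _root_.Cfsg.Agent.KO5caddd0.e13.{ku, kv} {α : Type kv} {M : List α → Sort ku} (φ : ∀ l, M l) {z : M List.nil} {s : ∀ a l, M l → M (List.cons a l)} (h0 : φ List.nil = z) (hs : ∀ a l, φ (List.cons a l) = s a l (φ l)) (l : List α) : φ l = @List.rec α M z s l := List.rec h0 (fun a l ih => (hs a l).trans (congrArg (s a l) ih)) l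
private noncomputable def _root_.Cfsg.Agent.KO5caddd0.k16 : type_of% @Decidable.decide := @(fun x0 x1 => @Decidable.rec.{1} _ @(fun x2 => @Bool) @(fun x2 => @Bool.false) @(fun x2 => @Bool.true) @x1)
private theorem _root_.Cfsg.Agent.KO5caddd0.e16 : @Decidable.decide = @_root_.Cfsg.Agent.KO5caddd0.k16 := by delta _root_.Cfsg.Agent.KO5caddd0.k16; rfl'
private noncomputable def _root_.Cfsg.Agent.KO5caddd0.k17.{ku0} : type_of% @Option.instDecidableEq.{ku0} := @(fun x0 x1 x2 x3 => @Option.rec.{1, ku0} @x0 @(fun x4 => @Decidable (@Eq.{(ku0+1)} _ @x4 @x3)) (@Option.rec.{1, ku0} @x0 @(fun x4 => @Decidable (@Eq.{(ku0+1)} _ (@Option.none.{ku0} _) @x4)) (@Decidable.isTrue _ (@Option.instDecidableEq._proof_1.{ku0} _)) @(fun x4 => @Decidable.isFalse _ (@Option.instDecidableEq._proof_2.{ku0} _ @x4)) @x3) @(fun x4 => @Option.rec.{1, ku0} @x0 @(fun x5 => @Decidable (@Eq.{(ku0+1)} _ (@Option.some.{ku0} _ @x4) @x5)) (@Decidable.isFalse _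 (@Option.instDecidableEq._proof_3.{ku0} _ @x4)) @(fun x5 => @Decidable.rec.{1} _ @(fun x6 => @Decidable (@Eq.{(ku0+1)} _ (@Option.some.{ku0} _ @x4) (@Option.some.{ku0} _ @x5))) @(fun x6 => @Decidable.isFalse _ (@Option.instDecidableEq._proof_5.{ku0} _ @x4 @x5 @x6)) @(fun x6 => @Decidable.isTrue _ (@Option.instDecidableEq._proof_4.{ku0} _ @x4 @x5 @x6)) (@x1 @x4 @x5)) @x3) @x2)
private theorem _root_.Cfsg.Agent.KO5caddd0.e17.{ku0} : @Option.instDecidableEq.{ku0} = @_root_.Cfsg.Agent.KO5caddd0.k17.{ku0} := by delta _root_.Cfsg.Agent.KO5caddd0.k17; rfl'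
private noncomputable def _root_.Cfsg.Agent.KO5caddd0.k18 : type_of% @Nat.decEq := @(fun x0 x1 => @Bool.rec.{1} @(fun x2 => (@Eq.{1} _ (@Nat.beq @x0 @x1) @x2) → @Decidable (@Eq.{1} _ @x0 @x1)) @(fun x2 => @Decidable.isFalse _ (@Nat.ne_of_beq_eq_false _ _ @x2)) @(fun x2 => @Decidable.isTrue _ (@Nat.eq_of_beq_eq_true _ _ @x2)) (@Nat.beq @x0 @x1) (@Eq.refl.{1} _ (@Nat.beq @x0 @x1)))
private theorem _root_.Cfsg.Agent.KO5caddd0.e18 : @Nat.decEq = @_root_.Cfsg.Agent.KO5caddd0.k18 := by delta _root_.Cfsg.Agent.KO5caddd0.k18; rfl'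
private noncomputable def _root_.Cfsg.Agent.KO5caddd0.k19 : type_of% @instDecidableEqNat := @Cfsg.Agent.KO5caddd0.k18
private theorem _root_.Cfsg.Agent.KO5caddd0.e19 : @instDecidableEqNat = @_root_.Cfsg.Agent.KO5caddd0.k19 := by delta _root_.Cfsg.Agent.KO5caddd0.k19; rewrite [← Cfsg.Agent.KO5caddd0.e18]; rfl'
private noncomputable def _root_.Cfsg.Agent.KO5caddd0.oEq.{ku} (α : Sort ku) (a b : Nat) (f t : α) : α := @Decidable.rec (a = b) (fun _ => α) (fun _ => f) (fun _ => t) (Nat.decEq a b)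
private noncomputable def _root_.Cfsg.Agent.KO5caddd0.k20.{ku} (α : Sort ku) (a b : Nat) (f t : α) : α := @Bool.rec (fun _ => α) f t (Nat.beq a b)
private theorem _root_.Cfsg.Agent.KO5caddd0.e20.{ku} : @_root_.Cfsg.Agent.KO5caddd0.oEq.{ku} = @_root_.Cfsg.Agent.KO5caddd0.k20.{ku} := funext fun α => funext fun a => funext fun b => funext fun f => funext fun t => by delta _root_.Cfsg.Agent.KO5caddd0.oEq _root_.Cfsg.Agent.KO5caddd0.k20; cases h : Nat.beq a b <;> cases Nat.decEq a b <;> rename_i g <;> first | rfl | exact absurd g (Nat.ne_of_beq_eq_false h) | exact absurd (Nat.eq_of_beq_eq_true h) g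
private noncomputable def _root_.Cfsg.Agent.KO5caddd0.k21 : (by first | exact type_of% @Cfsg.Agent.Lib.BitNet.sep | exact Unit : Sort _) := by first | (refine @Subtype.val _ (fun g => @Cfsg.Agent.Lib.BitNet.sep = @g) (@Subtype.mk _ _ (@(fun x0 x1 => @List.rec.{1, 0} ℕ @(fun x2 => ℕ → @Bool) @(fun x2 => @Nat.beq (@Nat.land @x2 (@Nat.sub @x2 (nat_lit 1))) (nat_lit 0)) @(fun x2 x3 x4 x5 => @Bool.rec.{1} @(fun x6 => @Bool) (@Bool.rec.{1} @(fun x6 => @Bool) @Bool.false (@x4 (@Nat.xor @x5 (@Nat.land @x5 @x2))) (@x4 (@Nat.land @x5 @x2))) @Bool.true (@Nat.beq (@Nat.land @x5 (@Nat.sub @x5 (nat_lit 1))) (nat_lit 0))) @x0 @x1)) ?_); funext a0 a1; refine (congrFun (_root_.Cfsg.Agent.KO5caddd0.e13 (fun a0 a1 => @Cfsg.Agent.Lib.BitNet.sep a0 a1) ?_ (fun c0 c1 => ?_) a0) a1 :) <;> (rfl')) | exact @Cfsg.Agent.Lib.BitNet.sep | exact ()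
private theorem _root_.Cfsg.Agent.KO5caddd0.e21 : (by first | exact @Cfsg.Agent.Lib.BitNet.sep = @_root_.Cfsg.Agent.KO5caddd0.k21 | exact True : Prop) := by first | (delta _root_.Cfsg.Agent.KO5caddd0.k21; exact @Subtype.property _ (fun g => @Cfsg.Agent.Lib.BitNet.sep = @g) _) | rfl | trivial
private noncomputable def _root_.Cfsg.Agent.KO5caddd0.k23.{ku0} : type_of% @List.get?Internal.{ku0} := @(fun x0 x1 x2 => @List.rec.{(ku0+1), ku0} @x0 @(fun x3 => ℕ → @Option.{ku0} @x0) @(fun x3 => @Option.none.{ku0} _) @(fun x3 x4 x5 x6 => @Nat.rec.{(ku0+1)} @(fun x7 => @Option.{ku0} @x0) (@Option.some.{ku0} _ @x3) @(fun x7 x8 => @x5 @x7) @x6) @x1 @x2)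
private theorem _root_.Cfsg.Agent.KO5caddd0.e23.{ku0} : @List.get?Internal.{ku0} = @_root_.Cfsg.Agent.KO5caddd0.k23.{ku0} := by delta _root_.Cfsg.Agent.KO5caddd0.k23; funext a0 a1 a2; refine (congrFun (_root_.Cfsg.Agent.KO5caddd0.e13 (fun a1 a2 => @List.get?Internal.{ku0} a0 a1 a2) ?_ (fun c0 c1 => ?_) a1) a2 :) <;> [(funext b0; (rfl')); (funext b0; (cases b0 with | @zero  => (rfl') | @succ b0_0 => (rfl')))]
private noncomputable def _root_.Cfsg.Agent.KO5caddd0.k24 : (by first | exact type_of% @Cfsg.Agent.Lib.BitNet.eqVal | exact Unit : Sort _) := by first | (refine @Subtype.val _ (fun g => @Cfsg.Agent.Lib.BitNet.eqVal = @g) (@Subtype.mk _ _ (@(fun x0 x1 x2 => @List.rec.{1, 0} ℕ @(fun x3 => ℕ → ℕ → ℕ) @(fun x3 x4 => @Bool.rec.{1} @(fun x5 => ℕ) (nat_lit 0) @x4 (@Nat.beq @x3 (nat_lit 0))) @(fun x3 x4 x5 x6 x7 => @x5 (@Nat.div @x6 (nat_lit 2)) (@Bool.rec.{1} @(fun x8 => ℕ) (@Nat.land @x7 @x3) (@Nat.xor @x7 (@Nat.land @x7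 @x3)) (@Nat.beq (@Nat.mod @x6 (nat_lit 2)) (nat_lit 0)))) @x0 @x1 @x2)) ?_); funext a0 a1 a2; refine (congrFun (congrFun (_root_.Cfsg.Agent.KO5caddd0.e13 (fun a0 a1 a2 => @Cfsg.Agent.Lib.BitNet.eqVal a0 a1 a2) ?_ (fun c0 c1 => ?_) a0) a1) a2 :) <;> (rfl')) | exact @Cfsg.Agent.Lib.BitNet.eqVal | exact ()
private theorem _root_.Cfsg.Agent.KO5caddd0.e24 : (by first | exact @Cfsg.Agent.Lib.BitNet.eqVal = @_root_.Cfsg.Agent.KO5caddd0.k24 | exact True : Prop) := by first | (delta _root_.Cfsg.Agent.KO5caddd0.k24; exact @Subtype.property _ (fun g => @Cfsg.Agent.Lib.BitNet.eqVal = @g) _) | rfl | trivial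
private noncomputable def _root_.Cfsg.Agent.KO5caddd0.k25 : (by first | exact type_of% @Cfsg.Agent.Lib.BitNet.addRow | exact Unit : Sort _) := by first | (refine @Subtype.val _ (fun g => @Cfsg.Agent.Lib.BitNet.addRow = @g) (@Subtype.mk _ _ (@(fun x0 x1 => @List.rec.{1, 0} ℕ @(fun x2 => ℕ → @List.{0} ℕ) @(fun x2 => @Bool.rec.{1} @(fun x3 => @List.{0} ℕ) (@x2 :: []) [] (@Nat.beq @x2 (nat_lit 0))) @(fun x2 x3 x4 x5 => @Bool.rec.{1} @(fun x6 => @List.{0} ℕ) ((@Nat.xor @x2 @x5) :: (@x4 (@Nat.land @x2 @x5))) (@x2 :: @x3) (@Nat.beq @x5 (nat_lit 0))) @x0 @x1)) ?_); funext a0 a1; refine (congrFun (_root_.Cfsg.Agent.KO5caddd0.e13 (fun a0 a1 => @Cfsg.Agent.Lib.BitNet.addRow a0 a1) ?_ (fun c0 c1 => ?_) a0) a1 :) <;> (rfl')) | exact @Cfsg.Agent.Lib.BitNet.addRow | exact ()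
private theorem _root_.Cfsg.Agent.KO5caddd0.e25 : (by first | exact @Cfsg.Agent.Lib.BitNet.addRow = @_root_.Cfsg.Agent.KO5caddd0.k25 | exact True : Prop) := by first | (delta _root_.Cfsg.Agent.KO5caddd0.k25; exact @Subtype.property _ (fun g => @Cfsg.Agent.Lib.BitNet.addRow = @g) _) | rfl | trivial
private noncomputable def _root_.Cfsg.Agent.KO5caddd0.k26 : (by first | exact type_of% @Cfsg.Agent.Lib.BitNet.sumRows | exact Unit : Sort _) := by first | (refine @Subtype.val _ (fun g => @Cfsg.Agent.Lib.BitNet.sumRows = @g) (@Subtype.mk _ _ (@(fun x0 x1 x2 x3 x4 => @Nat.rec.{1} @(fun x5 => ℕ → ℕ → (@List.{0} ℕ) → @List.{0} ℕ) @(fun x5 x6 x7 => @Bool.rec.{1} @(fun x8 => @List.{0} ℕ) (@Cfsg.Agent.KO5caddd0.k25 @x7 (@x0 @x5)) @x7 (@Nat.beq (@Nat.land @x6 (nat_lit 1)) (nat_lit 0))) @(fun x5 x6 x7 x8 x9 => @Bool.rec.{1} @(fun x10 => @List.{0} ℕ) (@x6 (@Nat.add @x7 (@Nat.pow (nat_lit 2) @x5)) (@Nat.shiftRight @x8 (@Nat.pow (nat_lit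 2) @x5)) (@x6 @x7 (@Nat.mod @x8 (@Nat.pow (nat_lit 2) (@Nat.pow (nat_lit 2) @x5))) @x9)) @x9 (@Nat.beq @x8 (nat_lit 0))) @x1 @x2 @x3 @x4)) ?_); rewrite [← Cfsg.Agent.KO5caddd0.e25]; funext a0 a1 a2 a3 a4; refine (congrFun (congrFun (congrFun (_root_.Cfsg.Agent.KO5caddd0.e12 (fun a1 a2 a3 a4 => @Cfsg.Agent.Lib.BitNet.sumRows a0 a1 a2 a3 a4) ?_ (fun c0 => ?_) a1) a2) a3) a4 :) <;> ((try delta Cfsg.Agent.Lib.BitNet.sumRows Cfsg.Agent.Lib.BitNet.sumRows._f); (try generalize @Cfsg.Agent.Lib.BitNet.addRow = g0); rfl')) | exact @Cfsg.Agent.Lib.BitNet.sumRows | exact ()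
private theorem _root_.Cfsg.Agent.KO5caddd0.e26 : (by first | exact @Cfsg.Agent.Lib.BitNet.sumRows = @_root_.Cfsg.Agent.KO5caddd0.k26 | exact True : Prop) := by first | (delta _root_.Cfsg.Agent.KO5caddd0.k26; exact @Subtype.property _ (fun g => @Cfsg.Agent.Lib.BitNet.sumRows = @g) _) | rfl | trivial
private noncomputable def _root_.Cfsg.Agent.KO5caddd0.k27 : (by first | exact type_of% @Cfsg.Agent.Lib.BitNet.cntSet | exact Unit : Sort _) := by first | (refine @Subtype.val _ (fun g => @Cfsg.Agent.Lib.BitNet.cntSet = @g) (@Subtype.mk _ _ (@(fun x0 x1 x2 x3 x4 => @Cfsg.Agent.KO5caddd0.k24 (@Cfsg.Agent.KO5caddd0.k26 @x2 @x0 (nat_lit 0) (@Nat.land @x3 (@Nat.sub (@Nat.pow (nat_lit 2) @x1) (nat_lit 1))) []) @x4 (@Nat.sub (@Nat.pow (nat_lit 2) @x1) (nat_lit 1)))) ?_); rewrite [← Cfsg.Agent.KO5caddd0.e26, ← Cfsg.Agent.KO5caddd0.e24]; (try delta Cfsg.Agent.Lib.BitNet.cntSet); (try generalize @Cfsg.Agent.Lib.BitNet.eqVal = g0); (try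 generalize @Cfsg.Agent.Lib.BitNet.sumRows = g1); rfl') | exact @Cfsg.Agent.Lib.BitNet.cntSet | exact ()
private theorem _root_.Cfsg.Agent.KO5caddd0.e27 : (by first | exact @Cfsg.Agent.Lib.BitNet.cntSet = @_root_.Cfsg.Agent.KO5caddd0.k27 | exact True : Prop) := by first | (delta _root_.Cfsg.Agent.KO5caddd0.k27; exact @Subtype.property _ (fun g => @Cfsg.Agent.Lib.BitNet.cntSet = @g) _) | rfl | trivial
private noncomputable def _root_.Cfsg.Agent.KO5caddd0.k28 : (by first | exact type_of% @Cfsg.Agent.RuD.Letters.forceN | exact Unit : Sort _) := by first | (refine @Subtype.val _ (fun g => @Cfsg.Agent.RuD.Letters.forceN = @g) (@Subtype.mk _ _ (@(fun x0 x1 => @Nat.rec.{1} @(fun x2 => ℕ) (@x1 (nat_lit 0)) @(fun x2 x3 => @x1 (@Nat.succ @x2)) @x0)) ?_); rfl') | exact @Cfsg.Agent.RuD.Letters.forceN | exact ()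
private theorem _root_.Cfsg.Agent.KO5caddd0.e28 : (by first | exact @Cfsg.Agent.RuD.Letters.forceN = @_root_.Cfsg.Agent.KO5caddd0.k28 | exact True : Prop) := by first | (delta _root_.Cfsg.Agent.KO5caddd0.k28; exact @Subtype.property _ (fun g => @Cfsg.Agent.RuD.Letters.forceN = @g) _) | rfl | trivial
private noncomputable def _root_.Cfsg.Agent.KO5caddd0.k29 : (by first | exact type_of% @Cfsg.Agent.Lib.BitNet.sw | exact Unit : Sort _) := by first | (refine @Subtype.val _ (fun g => @Cfsg.Agent.Lib.BitNet.sw = @g) (@Subtype.mk _ _ (@(fun x0 x1 x2 => @Bool.rec.{1} @(fun x3 => ℕ) (@Bool.rec.{1} @(fun x3 => ℕ) @x2 (@Nat.sub @x2 @x0) (@Bool.rec.{1} @(fun x3 => @Bool) @Bool.false (@Bool.rec.{1} @(fun x3 => @Bool) @Bool.true @Bool.false (@Cfsg.Agent.KO5caddd0.k20.{1} @Bool (@Nat.land (nat_lit 1) (@Nat.shiftRight @x1 (@Nat.sub @x2 @x0))) (nat_lit 0) @Bool.false @Bool.true)) (@Nat.ble @x0 @x2))) (@Nat.add @x2 @x0) (@Bool.rec.{1} @(fun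 x3 => @Bool) @Bool.true @Bool.false (@Cfsg.Agent.KO5caddd0.k20.{1} @Bool (@Nat.land (nat_lit 1) (@Nat.shiftRight @x1 @x2)) (nat_lit 0) @Bool.false @Bool.true)))) ?_); rewrite [← Cfsg.Agent.KO5caddd0.e20.{1}]; rfl') | exact @Cfsg.Agent.Lib.BitNet.sw | exact ()
private theorem _root_.Cfsg.Agent.KO5caddd0.e29 : (by first | exact @Cfsg.Agent.Lib.BitNet.sw = @_root_.Cfsg.Agent.KO5caddd0.k29 | exact True : Prop) := by first | (delta _root_.Cfsg.Agent.KO5caddd0.k29; exact @Subtype.property _ (fun g => @Cfsg.Agent.Lib.BitNet.sw = @g) _) | rfl | trivial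
private noncomputable def _root_.Cfsg.Agent.KO5caddd0.k30 : (by first | exact type_of% @Cfsg.Agent.RuD.Letters.appK | exact Unit : Sort _) := by first | (refine @Subtype.val _ (fun g => @Cfsg.Agent.RuD.Letters.appK = @g) (@Subtype.mk _ _ (@(fun x0 => @List.rec.{1, 0} (ℕ × ℕ) @(fun x1 => ℕ → ℕ) @(fun x1 => @x1) @(fun x1 x2 x3 x4 => @Cfsg.Agent.KO5caddd0.k28 (@Cfsg.Agent.KO5caddd0.k29 (@Prod.fst.{0, 0} _ _ @x1) (@Prod.snd.{0, 0} _ _ @x1) @x4) @x3) @x0)) ?_); rewrite [← Cfsg.Agent.KO5caddd0.e29, ← Cfsg.Agent.KO5caddd0.e28]; (try delta Cfsg.Agent.RuD.Letters.appK); (try generalize @Cfsg.Agent.RuD.Letters.forceN = g0); (try generalize @Cfsg.Agent.Lib.BitNet.sw = g1); rfl') | exact @Cfsg.Agent.RuD.Letters.appK | exact ()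
private theorem _root_.Cfsg.Agent.KO5caddd0.e30 : (by first | exact @Cfsg.Agent.RuD.Letters.appK = @_root_.Cfsg.Agent.KO5caddd0.k30 | exact True : Prop) := by first | (delta _root_.Cfsg.Agent.KO5caddd0.k30; exact @Subtype.property _ (fun g => @Cfsg.Agent.RuD.Letters.appK = @g) _) | rfl | trivial
private noncomputable def _root_.Cfsg.Agent.KO5caddd0.k31 : (by first | exact type_of% @Cfsg.Agent.RuD.Letters.evalK | exact Unit : Sort _) := by first | (refine @Subtype.val _ (fun g => @Cfsg.Agent.RuD.Letters.evalK = @g) (@Subtype.mk _ _ (@(fun x0 x1 => @List.rec.{1, 0} ℕ @(fun x2 => ℕ) @x1 @(fun x2 x3 x4 => @Cfsg.Agent.KO5caddd0.k28 @x4 (@Cfsg.Agent.KO5caddd0.k30 (@Cfsg.Agent.RuD.Letters.nthL @Cfsg.Agent.RuD.Letters.NL @x2))) @x0)) ?_); rewrite [← Cfsg.Agent.KO5caddd0.e30, ← Cfsg.Agent.KO5caddd0.e28]; (try delta Cfsg.Agent.RuD.Letters.evalK); (try generalize @Cfsg.Agent.RuD.Letters.forceN = g0); (try generalize @Cfsg.Agent.RuD.Letters.appK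 = g1); (try generalize @Cfsg.Agent.RuD.Letters.nthL = g2); (try generalize @Cfsg.Agent.RuD.Letters.NL = g3); rfl') | exact @Cfsg.Agent.RuD.Letters.evalK | exact ()
private theorem _root_.Cfsg.Agent.KO5caddd0.e31 : (by first | exact @Cfsg.Agent.RuD.Letters.evalK = @_root_.Cfsg.Agent.KO5caddd0.k31 | exact True : Prop) := by first | (delta _root_.Cfsg.Agent.KO5caddd0.k31; exact @Subtype.property _ (fun g => @Cfsg.Agent.RuD.Letters.evalK = @g) _) | rfl | trivial
private noncomputable def _root_.Cfsg.Agent.KO5caddd0.k32 : (by first | exact type_of% @Cfsg.Agent.CpAutRuFive.Eng.orbC | exact Unit : Sort _) := by first | (refine @Subtype.val _ (fun g => @Cfsg.Agent.CpAutRuFive.Eng.orbC = @g) (@Subtype.mk _ _ (@(fun x0 x1 x2 => @Cfsg.Agent.KO5caddd0.k0 _ (@Cfsg.Agent.KO5caddd0.k31 @x0 @x1) @(fun x3 => @Cfsg.Agent.KO5caddd0.k0 _ (@Cfsg.Agent.KO5caddd0.k31 @x0 @x3) @(fun x4 => @Cfsg.Agent.KO5caddd0.k0 _ (@Cfsg.Agent.KO5caddd0.k31 @x0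 @x4) @(fun x5 => @Cfsg.Agent.KO5caddd0.k0 _ (@Cfsg.Agent.KO5caddd0.k31 @x0 @x5) @(fun x6 => @Cfsg.Agent.KO5caddd0.k0 _ (@Cfsg.Agent.KO5caddd0.k9 @x1) @(fun x7 => @Cfsg.Agent.KO5caddd0.k0 _ (@Cfsg.Agent.KO5caddd0.k9 @x3) @(fun x8 => @Cfsg.Agent.KO5caddd0.k0 _ (@Cfsg.Agent.KO5caddd0.k9 @x4) @(fun x9 => @Cfsg.Agent.KO5caddd0.k0 _ (@Cfsg.Agent.KO5caddd0.k9 @x5) @(fun x10 => @Cfsg.Agent.KO5caddd0.k0 _ (@Cfsg.Agent.KO5caddd0.k9 @x6) @(fun x11 => @x2 @x7 @x8 @x9 @x10 @x11))))))))))) ?_); rewrite [← Cfsg.Agent.KO5caddd0.e9, ← Cfsg.Agent.KO5caddd0.e31, ← Cfsg.Agent.KO5caddd0.e0]; (try delta Cfsg.Agent.CpAutRuFive.Eng.orbC); (try generalize @Cfsg.Agent.Lib.BitNetSimple.force = g0); (try generalize @Cfsg.Agent.RuD.Letters.evalK = g1); (try generalize @Cfsg.Agent.SporadicB.RuData.row = g2); rfl') | exact @Cfsg.Agent.CpAutRuFive.Eng.orbC | exact ()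
private theorem _root_.Cfsg.Agent.KO5caddd0.e32 : (by first | exact @Cfsg.Agent.CpAutRuFive.Eng.orbC = @_root_.Cfsg.Agent.KO5caddd0.k32 | exact True : Prop) := by first | (delta _root_.Cfsg.Agent.KO5caddd0.k32; exact @Subtype.property _ (fun g => @Cfsg.Agent.CpAutRuFive.Eng.orbC = @g) _) | rfl | trivial
private noncomputable def _root_.Cfsg.Agent.KO5caddd0.k33 : (by first | exact type_of% @Cfsg.Agent.Lib.BitNet.popc | exact Unit : Sort _) := by first | (refine @Subtype.val _ (fun g => @Cfsg.Agent.Lib.BitNet.popc = @g) (@Subtype.mk _ _ (@(fun x0 x1 => @Nat.rec.{1} @(fun x2 => ℕ → ℕ) @(fun x2 => @Nat.land @x2 (nat_lit 1)) @(fun x2 x3 x4 => @Bool.rec.{1} @(fun x5 => ℕ) (@Nat.add (@x3 (@Nat.mod @x4 (@Nat.pow (nat_lit 2) (@Nat.pow (nat_lit 2) @x2)))) (@x3 (@Nat.shiftRight @x4 (@Nat.pow (nat_lit 2) @x2)))) (nat_lit 0) (@Nat.beq @x4 (nat_lit 0))) @x0 @x1)) ?_); funext a0 a1; refine (congrFun (_root_.Cfsg.Agent.KO5caddd0.e12 (fun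 a0 a1 => @Cfsg.Agent.Lib.BitNet.popc a0 a1) ?_ (fun c0 => ?_) a0) a1 :) <;> (rfl')) | exact @Cfsg.Agent.Lib.BitNet.popc | exact ()
private theorem _root_.Cfsg.Agent.KO5caddd0.e33 : (by first | exact @Cfsg.Agent.Lib.BitNet.popc = @_root_.Cfsg.Agent.KO5caddd0.k33 | exact True : Prop) := by first | (delta _root_.Cfsg.Agent.KO5caddd0.k33; exact @Subtype.property _ (fun g => @Cfsg.Agent.Lib.BitNet.popc = @g) _) | rfl | trivial
private noncomputable def _root_.Cfsg.Agent.KO5caddd0.k35 : (by first | exact type_of% @Cfsg.Agent.CpAutRuFive.Eng.run | exact Unit : Sort _) := by first | (refine @Subtype.val _ (fun g => @Cfsg.Agent.CpAutRuFive.Eng.run = @g) (@Subtype.mk _ _ (@(fun x0 x1 x2 => @List.rec.{1, 0} @Cfsg.Agent.CpAutRuFive.Eng.St @(fun x3 => (@List.{0} ℕ) → @Option.{0} ℕ) @(fun x3 => @Bool.rec.{1} @(fun x4 => @Option.{0} ℕ) (@Option.none.{0} _) (@Option.some.{0} _ (nat_lit 1)) (@Cfsg.Agent.KO5caddd0.k21 @x3 (@Nat.sub (@Nat.pow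 (nat_lit 2) (nat_lit 4060)) (nat_lit 1)))) @(fun x3 x4 x5 x6 => @Cfsg.Agent.CpAutRuFive.Eng.St.rec.{1} @(fun x7 => @Option.{0} ℕ) @(fun x7 x8 => @Cfsg.Agent.KO5caddd0.k0 _ (@Nat.land (@Option.rec.{1, 0} ℕ @(fun x9 => ℕ) (nat_lit 0) @(fun x9 => @x9) (@Cfsg.Agent.KO5caddd0.k23.{0} _ @x6 @x7)) (@Option.rec.{1, 0} ℕ @(fun x9 => ℕ) (nat_lit 0) @(fun x9 => @x9) (@Cfsg.Agent.KO5caddd0.k23.{0} _ @x6 @x8))) @(fun x9 => @x5 (@x9 :: @x6))) @(fun x7 x8 => @Cfsg.Agent.KO5caddd0.k0 _ (@Nat.xor (@Option.rec.{1, 0} ℕ @(fun x9 => ℕ) (nat_lit 0) @(fun x9 => @x9) (@Cfsg.Agent.KO5caddd0.k23.{0} _ @x6 @x7)) (@Nat.land (@Option.rec.{1, 0} ℕ @(fun x9 => ℕ) (nat_lit 0) @(fun x9 => @x9) (@Cfsg.Agent.KO5caddd0.k23.{0} _ @x6 @x7)) (@Option.rec.{1, 0} ℕ @(fun x9 => ℕ) (nat_lit 0) @(fun x9 => @x9) (@Cfsg.Agent.KO5caddd0.k23.{0} _ @x6 @x8)))) @(fun x9 => @x5 (@x9 :: @x6))) @(fun x7 x8 => @Cfsg.Agent.KO5caddd0.k0 _ (@Cfsg.Agent.KO5caddd0.k27 (nat_lit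 12) (nat_lit 4060) @Cfsg.Agent.KO5caddd0.k9 (@Option.rec.{1, 0} ℕ @(fun x9 => ℕ) (nat_lit 0) @(fun x9 => @x9) (@Cfsg.Agent.KO5caddd0.k23.{0} _ @x6 @x7)) @x8) @(fun x9 => @x5 (@x9 :: @x6))) @(fun x7 x8 => @Bool.rec.{1} @(fun x9 => @Option.{0} ℕ) (@Option.none.{0} _) (@Cfsg.Agent.KO5caddd0.k32 @x0 @x8 @(fun x9 x10 x11 x12 x13 => @x5 (@x9 :: (@x10 :: (@x11 :: (@x12 :: (@x13 :: @x6))))))) (@Bool.rec.{1} @(fun x9 => @Bool) @Bool.false (@Nat.ble (@Nat.succ @x8) (nat_lit 4060)) (@Nat.beq (@Option.rec.{1, 0} ℕ @(fun x9 => ℕ) (nat_lit 0) @(fun x9 => @x9) (@Cfsg.Agent.KO5caddd0.k23.{0} _ @x6 @x7)) (@Nat.pow (nat_lit 2) @x8)))) @(fun x7 x8 => @Bool.rec.{1} @(fun x9 => @Option.{0} ℕ) (@Option.none.{0} _) (@Option.rec.{1, 0} ℕ @(fun x9 => @Option.{0} ℕ) (@Option.none.{0} _) @(fun x9 => @Option.some.{0} _ (@Nat.mul (@Cfsg.Agent.KO5caddd0.k33 (nat_lit 12) (@Option.rec.{1, 0} ℕ @(fun x10 => ℕ) (nat_lit 0) @(fun x10 => @x10) (@Cfsg.Agent.KO5caddd0.k23.{0}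 _ @x6 @x7))) @x9)) (@Cfsg.Agent.KO5caddd0.k32 @x0 @x8 @(fun x9 x10 x11 x12 x13 => @x5 (@x9 :: (@x10 :: (@x11 :: (@x12 :: (@x13 :: @x6)))))))) (@Bool.rec.{1} @(fun x9 => @Bool) @Bool.false (@Bool.rec.{1} @(fun x9 => @Bool) @Bool.true @Bool.false (@Cfsg.Agent.KO5caddd0.k20.{1} @Bool (@Nat.land (nat_lit 1) (@Nat.shiftRight (@Option.rec.{1, 0} ℕ @(fun x9 => ℕ) (nat_lit 0) @(fun x9 => @x9) (@Cfsg.Agent.KO5caddd0.k23.{0} _ @x6 @x7)) @x8)) (nat_lit 0) @Bool.false @Bool.true)) (@Nat.ble (@Nat.succ @x8) (nat_lit 4060)))) @x3) @x1 @x2)) ?_); rewrite [← Cfsg.Agent.KO5caddd0.e20.{1}, ← Cfsg.Agent.KO5caddd0.e33, ← Cfsg.Agent.KO5caddd0.e32, ← Cfsg.Agent.KO5caddd0.e9, ← Cfsg.Agent.KO5caddd0.e27, ← Cfsg.Agent.KO5caddd0.e23.{0}, ← Cfsg.Agent.KO5caddd0.e0, ← Cfsg.Agent.KO5caddd0.e21]; funext a0 a1 a2; refine (congrFun (_root_.Cfsg.Agent.KO5caddd0.e13 (fun a1 a2 => @Cfsg.Agent.CpAutRuFive.Eng.run a0 a1 a2) ?_ (fun c0 c1 => ?_) a1) a2 :) <;>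 [(funext b0; ((try delta Cfsg.Agent.CpAutRuFive.Eng.run Cfsg.Agent.CpAutRuFive.Eng.run._f); (try generalize @Cfsg.Agent.Lib.BitNet.sep = g0); (try generalize @Cfsg.Agent.Lib.BitNetSimple.force = g1); (try generalize @Cfsg.Agent.Lib.BitNet.cntSet = g2); (try generalize @Cfsg.Agent.SporadicB.RuData.row = g3); (try generalize @Cfsg.Agent.CpAutRuFive.Eng.orbC = g4); (try generalize @Cfsg.Agent.Lib.BitNet.popc = g5); rfl')); (funext b0; (cases c0 with | @and c0_0 c0_1 => ((try delta Cfsg.Agent.CpAutRuFive.Eng.run Cfsg.Agent.CpAutRuFive.Eng.run._f); (try generalize @Cfsg.Agent.Lib.BitNet.sep = g0); (try generalize @Cfsg.Agent.Lib.BitNetSimple.force = g1); (try generalize @Cfsg.Agent.Lib.BitNet.cntSet = g2); (try generalize @Cfsg.Agent.SporadicB.RuData.row = g3); (try generalize @Cfsg.Agent.CpAutRuFive.Eng.orbC = g4); (try generalize @Cfsg.Agent.Lib.BitNet.popc = g5); rfl') | @diff c0_0 c0_1 => ((try delta Cfsg.Agent.CpAutRuFive.Eng.run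 Cfsg.Agent.CpAutRuFive.Eng.run._f); (try generalize @Cfsg.Agent.Lib.BitNet.sep = g0); (try generalize @Cfsg.Agent.Lib.BitNetSimple.force = g1); (try generalize @Cfsg.Agent.Lib.BitNet.cntSet = g2); (try generalize @Cfsg.Agent.SporadicB.RuData.row = g3); (try generalize @Cfsg.Agent.CpAutRuFive.Eng.orbC = g4); (try generalize @Cfsg.Agent.Lib.BitNet.popc = g5); rfl') | @cnt c0_0 c0_1 => ((try delta Cfsg.Agent.CpAutRuFive.Eng.run Cfsg.Agent.CpAutRuFive.Eng.run._f); (try generalize @Cfsg.Agent.Lib.BitNet.sep = g0); (try generalize @Cfsg.Agent.Lib.BitNetSimple.force = g1); (try generalize @Cfsg.Agent.Lib.BitNet.cntSet = g2); (try generalize @Cfsg.Agent.SporadicB.RuData.row = g3); (try generalize @Cfsg.Agent.CpAutRuFive.Eng.orbC = g4); (try generalize @Cfsg.Agent.Lib.BitNet.popc = g5); rfl') | @pt c0_0 c0_1 => ((try delta Cfsg.Agent.CpAutRuFive.Eng.run Cfsg.Agent.CpAutRuFive.Eng.run._f); (try generalize @Cfsg.Agent.Lib.BitNet.sep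 = g0); (try generalize @Cfsg.Agent.Lib.BitNetSimple.force = g1); (try generalize @Cfsg.Agent.Lib.BitNet.cntSet = g2); (try generalize @Cfsg.Agent.SporadicB.RuData.row = g3); (try generalize @Cfsg.Agent.CpAutRuFive.Eng.orbC = g4); (try generalize @Cfsg.Agent.Lib.BitNet.popc = g5); rfl') | @base c0_0 c0_1 => ((try delta Cfsg.Agent.CpAutRuFive.Eng.run Cfsg.Agent.CpAutRuFive.Eng.run._f); (try generalize @Cfsg.Agent.Lib.BitNet.sep = g0); (try generalize @Cfsg.Agent.Lib.BitNetSimple.force = g1); (try generalize @Cfsg.Agent.Lib.BitNet.cntSet = g2); (try generalize @Cfsg.Agent.SporadicB.RuData.row = g3); (try generalize @Cfsg.Agent.CpAutRuFive.Eng.orbC = g4); (try generalize @Cfsg.Agent.Lib.BitNet.popc = g5); rfl')))]) | exact @Cfsg.Agent.CpAutRuFive.Eng.run | exact ()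
private theorem _root_.Cfsg.Agent.KO5caddd0.e35 : (by first | exact @Cfsg.Agent.CpAutRuFive.Eng.run = @_root_.Cfsg.Agent.KO5caddd0.k35 | exact True : Prop) := by first | (delta _root_.Cfsg.Agent.KO5caddd0.k35; exact @Subtype.property _ (fun g => @Cfsg.Agent.CpAutRuFive.Eng.run = @g) _) | rfl | trivial

theorem r_3a : run w_3a i_3a [m1_3a] = some 2160 := by (first | (refine of_decide_eq_true ?_; rewrite [Cfsg.Agent.KO5caddd0.e16, Cfsg.Agent.KO5caddd0.e17.{0}, Cfsg.Agent.KO5caddd0.e19, Cfsg.Agent.KO5caddd0.e35]; decide +kernel) | decide +kernel)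
theorem g_3a : Good (wprod ml w_3a) :=
  good_of (t := [5]) (u := [2]) (b := [0]) (b' := [0]) (by decide +kernel) rfl

/-- **the class 3a** -/
theorem ok_3a : Cl.OK ⟨w_3a, 2160, (1890, 0)⟩ :=
  ok_c a1_3a a2_3a a3_3a (by decide +kernel) (by (first | (rewrite [Cfsg.Agent.KO5caddd0.e33]; decide +kernel) | decide +kernel)) (by decide +kernel)
    (fun m hm => Or.inl (List.mem_singleton.1 hm)) r_3a g_3a

end Cfsg.Agent.H51.Ore.Ru
end

-- part: H51/Ore/Ru/C4d
section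
set_option linter.all false

/-!
# The classes of the Rudvalis group: class 4d (helper51)

Generated certificates: for a representative `w` the masks of the points adjacent to their images under `w`, `w²`, `w³`,
a bound of the centralizer, the invariants, and the form of a commutator.
-/

set_option autoImplicit false
set_option maxRecDepth 100000
set_option exponentiation.threshold 5000

namespace Cfsg.Agent.H51.Ore.Ru

open Cfsg.Agent.Lib Cfsg.Agent.Lib.BitNet Cfsg.Agent.SporadicB Cfsg.Agent.SporadicB.RuData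
open Cfsg.Agent.SporadicB.RuOrder Cfsg.Agent.RuD.Data Cfsg.Agent.SporRec.TCUpperCert Cfsg.Agent.SporRec.R3.Kernel
open Cfsg.Agent.RuD.Letters Cfsg.Agent.KFacts.Ru.CentEng Cfsg.Agent.CpAutRuFive.Eng

/-! ### class 4d -/

def m1_4d : ℕ := 0x305e3f62199a928311a6986f544c17809197da211e62a4f8f1b1fd8e6ab31e94de41dd836b31bba0b4f4cee7115d2c7195110bad96f619a453321362b96d01a001c2737532b19d8829bb4cd1f857556084bc52aabe9aaa44a1f905eb844994bde008b1834d2caa61a0f6a8d8de8f9d7d955aab45dbeeb1bb20c501082002393040958d963fe10c0c52b2d030c6bf25ae807c6d6fb07b97d0fbdf86e335953b95949948b331ec336d01fb6360cb2c47e37a089415c8602e856ce91c8932c15724e362641ea460e85cb872e2898fa5c8a459381001022156adf63f84ecbf0502bd359bc0c723950e705731db5558378de3a9bed05eb5d8aa1904b60d79247ff553f7da1472ac4c991d0c06f9af9f3ad5fdc2ca759b97ec859f6d3090283ec86e70ce6b64b0c891506a2fb0cfafdee12838e624a392ff8e4af552d20ba817925972f354b10877b85e9f6ec4674a9d8739799b08ea1cbec690bc6b69946b6aff4aae33a4476dd41bdceb75cc119d6bbcf23b672985128908c5833d2d7a44d5bc951356f1a27d02219869fa22b7cd28db9e0375e357946b8ed892b6626468661029afce689a838743e3e344113089fe23c6134558e33c0ff50019a46f02c4408530645ab1a30a484fa818e564c99b34400b140244f5c475019f42df47d35e65803abd0d21dec8bd31e6b49c08ad1416f8a6f00f83a8d94ef08e50904447c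

def m2_4d : ℕ := 0x3999622b8e1414af2cad7be0098b661b1f9540b28a73a8d984127a42958e1ff40bf11074d0e5623561f81946ac72670c6fd607827f14d93b33006102475b4baab17d9657684644f278a91ce46fc4ee448c1f088e7c20e24350a8d3f00d68ef0be52c29c3a7d28cd06ea54f1c6cb886ce9ba4a99aa5688606eac313d5581600c8db8002234e82d8b50753187dd23b13e0198bdb4f5043a0923667d6989f16497465ae9900c4a645d6818d32198898b2515f2ba1ccb90fe5adaafc564003f0c74aa4ed3963c5872c0d8090d9aeb2050364cbd6d4b32dee6dd2aa3233113101312199374183b199824aa60003730ba2930b0cd7f285f889f2f29300ea8abe0d18b4b709c9b6fea8f542ee9c40f5558c1edf35dfd48561099adfbad2b0b8e6bee2ec38d6801dd31fcbb7490796363c59c711657435c16a4ac2bb332cb23db621344b0c41913965f90b6287f3a14e5e6604076930f472441e4358f0228e63e47926ddb14f9e345824f3a350110908e72057df038c9b2bd091a23afbe80cc76f9f472b0f68bc1692145c66f087d7570490bd764a0ccf98b5e8b2cdc934059509667a6d8bbd27278a9ad363a34d1832b9c4ac7afd1a9dc8859ac6108dfb1ced0c90b95f549e195307fb174ce9f08772744b5322b4e589b31a5445f066992307a6eff02b8576d0f60a8e0fb59395b2b5e0bcc263f9be592d300130c4b17382b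

def m3_4d : ℕ := 0x305e3f62199a928311a6986f544c17809197da211e62a4f8f1b1fd8e6ab31e94de41dd836b31bba0b4f4cee7115d2c7195110bad96f619a453321362b96d01a001c2737532b19d8829bb4cd1f857556084bc52aabe9aaa44a1f905eb844994bde008b1834d2caa61a0f6a8d8de8f9d7d955aab45dbeeb1bb20c501082002393040958d963fe10c0c52b2d030c6bf25ae807c6d6fb07b97d0fbdf86e335953b95949948b331ec336d01fb6360cb2c47e37a089415c8602e856ce91c8932c15724e362641ea460e85cb872e2898fa5c8a459381001022156adf63f84ecbf0502bd359bc0c723950e705731db5558378de3a9bed05eb5d8aa1904b60d79247ff553f7da1472ac4c991d0c06f9af9f3ad5fdc2ca759b97ec859f6d3090283ec86e70ce6b64b0c891506a2fb0cfafdee12838e624a392ff8e4af552d20ba817925972f354b10877b85e9f6ec4674a9d8739799b08ea1cbec690bc6b69946b6aff4aae33a4476dd41bdceb75cc119d6bbcf23b672985128908c5833d2d7a44d5bc951356f1a27d02219869fa22b7cd28db9e0375e357946b8ed892b6626468661029afce689a838743e3e344113089fe23c6134558e33c0ff50019a46f02c4408530645ab1a30a484fa818e564c99b34400b140244f5c475019f42df47d35e65803abd0d21dec8bd31e6b49c08ad1416f8a6f00f83a8d94ef08e50904447c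

def i_4d : List St := [
  .and 2 2, .diff 0 2, .cnt 4 847, .and 0 1, .base 0 4, .and 4 4, .and 0 4, .and 0 12, .diff 0 14, .diff 0 6,
  .diff 0 6, .cnt 1 34, .and 0 1, .pt 0 1229, .and 8 8, .and 0 15, .diff 0 4, .diff 0 4, .diff 0 8, .diff 0 8,
  .cnt 16 131, .and 0 1, .pt 0 0, .and 6 6, .and 0 21, .and 0 5, .and 0 20, .pt 0 407, .and 29 29, .and 0 14,
  .and 0 14, .diff 0 6, .pt 0 2807, .and 25 25, .and 0 11, .and 0 21, .pt 0 320]

/-- representative -/
def w_4d : List ℕ := [2, 5, 3, 5, 2, 7]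

theorem a1_4d : chkAdj (rpw w_4d 1) m1_4d = true := by decide +kernel
theorem a2_4d : chkAdj (rpw w_4d 2) m2_4d = true := by decide +kernel
theorem a3_4d : chkAdj (rpw w_4d 3) m3_4d = true := by decide +kernel
theorem r_4d : run w_4d i_4d [m1_4d, m2_4d, m3_4d] = some 512 := by decide +kernel
theorem g_4d : Good (wprod ml w_4d) :=
  good_of (t := [2]) (u := [5]) (b := [3]) (b' := [7]) (by decide +kernel) rfl

/-- **the class 4d** -/
theorem ok_4d : Cl.OK ⟨w_4d, 512, (896, 1940)⟩ :=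
  ok_c a1_4d a2_4d a3_4d (by decide +kernel) (by decide +kernel) (by decide +kernel)
    (by simp) r_4d g_4d

end Cfsg.Agent.H51.Ore.Ru
end

-- part: H51/Ore/Ru/C12b
section
set_option linter.all false

/-!
# The classes of the Rudvalis group: class 12b (helper51)

Generated certificates: for a representative `w` the masks of the points adjacent to their images under `w`, `w²`, `w³`,
a bound of the centralizer, the invariants, and the form of a commutator.
-/

set_option autoImplicit false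
set_option maxRecDepth 100000
set_option exponentiation.threshold 5000

namespace Cfsg.Agent.H51.Ore.Ru

open Cfsg.Agent.Lib Cfsg.Agent.Lib.BitNet Cfsg.Agent.SporadicB Cfsg.Agent.SporadicB.RuData
open Cfsg.Agent.SporadicB.RuOrder Cfsg.Agent.RuD.Data Cfsg.Agent.SporRec.TCUpperCert Cfsg.Agent.SporRec.R3.Kernel
open Cfsg.Agent.RuD.Letters Cfsg.Agent.KFacts.Ru.CentEng Cfsg.Agent.CpAutRuFive.Eng

/-! ### class 12b -/

def m1_12b : ℕ := 0x226da2a50130ba8822184361aa182004c07fbb9323840436caf9e983a8bd5435311472488f95be85b2c08ac3ce155a4ed3087e5232db0d6bacc9281555ea909a4a863f53b18c6585d0c2d4cb02c77532eba2da807faf0c6420411acfb865282052e94b14932c60064e20f7909524b4fc8f599298832bbe2e8e90450db7d84aa0184a2d5f58b97804989e0aa8e02c2e110733194dd92d052233c374141d5c0372077ae3aa87e2b12402011b4c0805f8a5a131ba4063a4af52a60c5a0e942a0e3922208a510274825f4c81623c97e1b8e011ffd5e5a5d417c6cc90adefd0b58c2a4c69d31ad414c9a39ce4e2fdc1ceb2de1099a6a55171cff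3c3e85a048823ece0e8f601d064205dc0acb012963ca19c75608934fc7643e7c88281ac9bf24b080fd862a38afb90335c11488d0c0eb6a6cd2a5df45067812b6a1bd864847c48cd86259e89830220b37b04d2a1070035734347863e45a129ac95459ac687519f1140b4325421a8198f890a50c533c6395a9327081a1110ce1c5142148c06758a3118553a8b556056c9cc422312be48289f7025ebd73453c6dff406fe1007070153b34a51ea61463029093b840603044a54e0290158a32f05026c34b02751b08cefebea0611687500f0006ba62e27ac541865a505072b5cbb6f447d08cfc64942f4bacff41e7ca3cc624aa04802e541aa4c6f2c40232e596435b88c2a0ba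

def m2_12b : ℕ := 0x3610fd170734a2a842a5a95c90a59d1e1c7780abe700942c08436120a251249004f4394ae040aa8c60ca81289c9730c191d1cb5f6ccc52274b97c204dd43386ce3b411e3c84e063a4dad6077718fe5901647a9c2d9a895324681c825131a2900339e17c4b08a41f573daa827473dca90c879fc2761406591384f7cbee2818e1261dceb291cc89864a182923155f0fc39450a5b05f1ad03e310113660a208d186a8e107dcd6adc22d9346e327025ccb320124400de189695e3d095141d8ecbe29b9203c193fa1277a4a771c08046967e8a3339ab91584aab02a8f03945b1e2cd99918185488421f02369e50e6c6415a02800bcd693c01621823e79f166970ab51ce5da93193b46b3003468f8ccf13ddcf6de2119a98d23fc075b4101a09165353ca2e884cf5cbe9710c56ae08166118639a310c120b8851aea5445640f05a3e11c96af8326b22139878c4b685f43b910945994004e7d0a8058ea49241806b474a9b1d468f330ba36f551936cc01242913186e49084e107b30f0538e57eacbf451a5866201bb50bf0276f4310c3ac615ff4576201a4a68a9b2828084673cd3cf14eae47931595ba0b4f01a45a304dd95b0b8360aac0b82581a7c94012d1ceb208802378e4b0c2aaf4512c1c09c42fafa00200f30c041353524412df1ec30d0c3a4a30a7bb87e6bdad67b388dd4e015b664346b94434588a2c7c0240cb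

def m3_12b : ℕ := 0x2100a20042002718044608740a14204029408802a23210002828280020051007c020225250b0000411e0800205444021002410050c80c88016120404089808001840a008080b811600080010602022800902b40008041208100c4202118060950904841040010504893830408251842a1082a45a21ce44291c040254404802cc9220103203c2008cc1a82084008010ec01c0009501268040a86c100c0061e3300800210b2042081e4020c04028f38010003210080080021800a2400200291aa28f5040863108480b388c06426180220a0811342020411084810040114b189445201004c10000081000213199219044026c83618042001e0100004008011000460048402021000a08000190b00064148040a0610824045208080210480080c048000680824a21200820741040c81401c0480300a00780c00815820020040001101510680aaa0002823002c001408044400101c4094000181002880144a9001801004a000880000100064064401000020800da8480802080888020268882100844800404111562240215d04804000447a508006014a040000490a1288000aa002014204d20007004167010902450048480864404a185011000461400300200044080000280202a00d20206802200120348030e310000604d910000800070422802081a9d8804521080041800100000008a000400a808009125100120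

def i_12b : List St := [
  .and 2 2, .and 0 1, .diff 0 3, .cnt 4 788, .and 0 1, .base 0 5, .and 6 6, .and 0 5, .and 0 3, .and 0 3,
  .diff 0 16, .cnt 17 352, .and 0 1, .pt 0 1081, .and 19 19, .and 0 16, .and 0 16, .and 0 16, .and 0 4, .diff 0 8,
  .pt 0 1274, .and 29 29, .and 0 27, .and 0 4, .and 0 27, .diff 0 39, .and 0 17, .pt 0 3842, .and 7 7, .and 0 12,
  .pt 0 2710]

/-- representative -/
def w_12b : List ℕ := [0, 5, 7, 4, 5, 0, 8, 3]

theorem a1_12b : chkAdj (rpw w_12b 1) m1_12b = true := by decide +kernel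
theorem a2_12b : chkAdj (rpw w_12b 2) m2_12b = true := by decide +kernel
theorem a3_12b : chkAdj (rpw w_12b 3) m3_12b = true := by decide +kernel
theorem r_12b : run w_12b i_12b [m1_12b, m2_12b, m3_12b] = some 12 := by decide +kernel
theorem g_12b : Good (wprod ml w_12b) :=
  good_of (t := [0]) (u := [5]) (b := [7, 4]) (b' := [8, 3]) (by decide +kernel) rfl

/-- **the class 12b** -/
theorem ok_12b : Cl.OK ⟨w_12b, 12, (762, 372)⟩ :=
  ok_c a1_12b a2_12b a3_12b (by decide +kernel) (by decide +kernel) (by decide +kernel)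
    (by simp) r_12b g_12b

end Cfsg.Agent.H51.Ore.Ru
end
end
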