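import Cfsg.Agent.CpAutRuFive.Cert
import Cfsg.Agent.H134.Sq.Base_m3
import Cfsg.Agent.H347.HX.Eng
import Cfsg.Agent.FastGrp
import Cfsg.Agent.Prune
set_option linter.all false

section
prune_inst 0x7f00000000000000000000000000000000000000000000000000000000000000000000000000000000000000000000000000000000000000000000000000000000000000000000000000000000000000003fffffffffffffffffffffffffffbeffbdffffffff

-- part: H51/Ore/RuEng
section
set_option linter.all false
open scoped Cfsg.Agent.FastGrp

/-!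
# The classes of the Rudvalis group: tools (helper51)

In the model `RuOrder.H` (automorphism group of the graph on 4060 points). For a word `w` the mask `M_k` consists of the
points adjacent to their image under `w ^ k`. The numbers `|M₁ ∩ M₂|` and `|M₁ ∩ M₃|` are class functions (`phi`).
`card_c` bounds the centralizer of `w`, `card_e` bounds the group `E` of the elements conjugating `w` to `w` or `w⁻¹`.
-/

set_option autoImplicit false
set_option maxRecDepth 100000
set_option exponentiation.threshold 5000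

namespace Cfsg.Agent.H51.Ore.Ru

open Subgroup Cfsg.Agent.Lib Cfsg.Agent.Lib.BitNet Cfsg.Agent.SporadicB Cfsg.Agent.SporadicB.RuData
open Cfsg.Agent.SporadicB.RuOrder Cfsg.Agent.RuD.Data Cfsg.Agent.SporRec.TCUpperCert Cfsg.Agent.SporRec.R3.Kernel
open Cfsg.Agent.RuD.Letters Cfsg.Agent.KFacts.Ru.CentEng Cfsg.Agent.CpAutRuFive.Eng Cfsg.Agent.H777.Ore

/-- repeated words -/
def rpw (w : List ℕ) : ℕ → List ℕ
  | 0 => []
  | n + 1 => w ++ rpw w n

theorem wprod_rpw (w : List ℕ) (n : ℕ) : wprod ml (rpw w n) = wprod ml w ^ n := by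
  induction n with
  | zero => rfl
  | succ n ih => rw [rpw, wprod_append, ih, pow_succ']

/-- the adjacency relation -/
def adj (i j : Fin 4060) : Prop := (row i).testBit j = true

theorem adj_symm {i j : Fin 4060} (h : adj i j) : adj j i := by
  have h1 := symCheck_sound sym (u := (i : ℕ)) (v := (j : ℕ)) (lt_trans i.2 (by norm_num)) (lt_trans j.2 (by norm_num))
  unfold adj at h ⊢
  rw [← h1]
  exact h

theorem adj_comm {i j : Fin 4060} : adj i j ↔ adj j i := ⟨adj_symm, adj_symm⟩

theorem adj_map (x : RuOrder.H) (i j : Fin 4060) :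
    adj ((x : Equiv.Perm (Fin 4060)) i) ((x : Equiv.Perm (Fin 4060)) j) ↔ adj i j := by
  unfold adj
  rw [x.2 i j]

/-- the points adjacent to their image under `g ^ k` -/
def adS (k : ℕ) (g : RuOrder.H) : Set (Fin 4060) := {i | adj i (((g ^ k : RuOrder.H) : Equiv.Perm (Fin 4060)) i)}

theorem mul_apply' (x y : RuOrder.H) (i : Fin 4060) : ((x * y : RuOrder.H) : Equiv.Perm (Fin 4060)) i =
    (x : Equiv.Perm (Fin 4060)) ((y : Equiv.Perm (Fin 4060)) i) := rfl

theorem adS_conj (k : ℕ) (x g : RuOrder.H) (i : Fin 4060) :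
    (x : Equiv.Perm (Fin 4060)) i ∈ adS k (x * g * x⁻¹) ↔ i ∈ adS k g := by
  have h : ((((x * g * x⁻¹) ^ k : RuOrder.H)) : Equiv.Perm (Fin 4060)) ((x : Equiv.Perm (Fin 4060)) i) =
      (x : Equiv.Perm (Fin 4060)) (((g ^ k : RuOrder.H) : Equiv.Perm (Fin 4060)) i) := by
    rw [conj_pow, ← mul_apply', inv_mul_cancel_right, mul_apply']
  change adj _ _ ↔ adj _ _
  rw [h]
  exact adj_map x _ _

theorem adS_inv (k : ℕ) (g : RuOrder.H) : adS k g⁻¹ = adS k g := by
  ext i
  change adj _ _ ↔ adj _ _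
  rw [← adj_map (g ^ k) i (((g⁻¹ ^ k : RuOrder.H) : Equiv.Perm (Fin 4060)) i), ← mul_apply', inv_pow, mul_inv_cancel]
  exact adj_comm

/-- the class functions -/
noncomputable def phi (k : ℕ) (g : RuOrder.H) : ℕ := Nat.card {i : Fin 4060 // i ∈ adS 1 g ∧ i ∈ adS k g}

theorem phi_conj (k : ℕ) {x y : RuOrder.H} (h : IsConj x y) : phi k x = phi k y := by
  obtain ⟨c, rfl⟩ := isConj_iff.1 h
  refine Nat.card_congr (Equiv.subtypeEquiv (c : Equiv.Perm (Fin 4060)) fun i => ?_)
  rw [adS_conj, adS_conj]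

theorem phi_inv (k : ℕ) (g : RuOrder.H) : phi k g⁻¹ = phi k g := by
  rw [phi, phi, adS_inv, adS_inv]

theorem mem_adS {w : List ℕ} {k M : ℕ} (h : chkAdj (rpw w k) M = true) (i : Fin 4060) :
    M.testBit i = true ↔ i ∈ adS k (wprod ml w) := by
  rw [testBit_adj h, wprod_rpw]
  rfl

theorem phi_word {w : List ℕ} {k M N : ℕ} (h1 : chkAdj (rpw w 1) M = true) (h2 : chkAdj (rpw w k) N = true)
    (hM : Nat.blt M (Nat.pow 2 4060) = true) : phi k (wprod ml w) = popc 12 (Nat.land M N) := by
  have h3 : phi k (wprod ml w) = (pts 4060 (Nat.land M N)).card := by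
    classical
    rw [phi, Nat.card_eq_fintype_card, Fintype.card_subtype]
    congr 1
    ext i
    rw [mem_pts, Finset.mem_filter, ← mem_adS h1, ← mem_adS h2]
    change _ ↔ (M &&& N).testBit i = true
    rw [Nat.testBit_and, Bool.and_eq_true]
    exact ⟨fun h => h.2, fun h => ⟨Finset.mem_univ _, h⟩⟩
  rw [h3]
  apply le_antisymm
  · exact card_pts_le (by norm_num) _
  · apply card_pts_eq
    intro i hi
    by_contra hge
    change (M &&& N).testBit i = true at hi
    rw [Nat.testBit_and, Bool.and_eq_true] at hi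
    rw [Nat.blt_eq] at hM
    have h4 : M < 2 ^ i := lt_of_lt_of_le hM (Nat.pow_le_pow_right (by norm_num) (not_lt.1 hge))
    rw [Nat.testBit_lt_two_pow h4] at hi
    exact absurd hi.1 (by decide)

/-! ### bounds of centralizers -/

theorem comm_rpw {w : List ℕ} {x : RuOrder.H} (h : x * wprod ml w = wprod ml w * x) (k : ℕ) :
    x * wprod ml (rpw w k) = wprod ml (rpw w k) * x := by
  rw [wprod_rpw]
  exact ((show Commute x (wprod ml w) from h).pow_right k).eq

theorem card_c {w : List ℕ} {l : List St} {N : ℕ} {ms : List ℕ}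
    (hm : ∀ m ∈ ms, ∃ k : ℕ, chkAdj (rpw w k) m = true) (h : run w l ms = some N) :
    Nat.card ↥(centralizer ({wprod ml w} : Set RuOrder.H)) ≤ N := by
  have h1 : Nat.card (Cen [w]) ≤ N := by
    refine card_le_of_run (w := w) (List.mem_singleton.2 rfl) ?_ h
    intro m hm'
    obtain ⟨k, hk⟩ := hm m hm'
    exact ⟨_, fun x hx => comm_rpw (hx _ (List.mem_singleton.2 rfl)) k, hk⟩
  have h2 : centralizer ({wprod ml w} : Set RuOrder.H) = Cen [w] := by
    ext x
    rw [mem_centralizer_singleton_iff, mem_Cen]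
    exact ⟨fun h w hw => by rw [List.mem_singleton.1 hw]; exact h, fun h => h _ (List.mem_singleton.2 rfl)⟩
  rw [h2]
  exact h1

/-- the elements conjugating `g` to itself or its inverse -/
def E {G : Type*} [Group G] (g : G) : Subgroup G where
  carrier := {x | x * g * x⁻¹ = g ∨ x * g * x⁻¹ = g⁻¹}
  one_mem' := Or.inl (by simp)
  mul_mem' := by
    rintro x y hx hy
    have h : x * y * g * (x * y)⁻¹ = x * (y * g * y⁻¹) * x⁻¹ := by group
    have h2 : x * g⁻¹ * x⁻¹ = (x * g * x⁻¹)⁻¹ := by group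
    change x * y * g * (x * y)⁻¹ = g ∨ x * y * g * (x * y)⁻¹ = g⁻¹
    rw [h]
    rcases hx with hx | hx <;> rcases hy with hy | hy
    · left; rw [hy, hx]
    · right; rw [hy, h2, hx]
    · right; rw [hy, hx]
    · left; rw [hy, h2, hx, inv_inv]
  inv_mem' := by
    rintro x (hx | hx)
    · left
      calc x⁻¹ * g * x⁻¹⁻¹ = x⁻¹ * (x * g * x⁻¹) * x⁻¹⁻¹ := by rw [hx]
        _ = g := by group
    · right
      have h2 : g = (x * g * x⁻¹)⁻¹ := by rw [hx, inv_inv]
      calc x⁻¹ * g * x⁻¹⁻¹ = x⁻¹ * (x * g * x⁻¹)⁻¹ * x⁻¹⁻¹ := by rw [← h2]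
        _ = g⁻¹ := by group

theorem inv_of_mem_E {w : List ℕ} {k M : ℕ} (h : chkAdj (rpw w k) M = true) {x : RuOrder.H}
    (hx : x ∈ E (wprod ml w)) : Inv (x : Equiv.Perm (Fin 4060)) M := by
  intro i
  rw [Bool.eq_iff_iff, mem_adS h, mem_adS h, ← adS_conj k x (wprod ml w) i]
  rcases hx with hx | hx
  · rw [hx]
  · rw [hx, adS_inv]

theorem card_e {w : List ℕ} {l : List Ins} {N : ℕ} {ms : List ℕ}
    (hm : ∀ m ∈ ms, ∃ k : ℕ, chkAdj (rpw w k) m = true) (h : ub 12 4060 row l ms = some N) :
    Nat.card ↥(E (wprod ml w)) ≤ N := by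
  have h1 : Nat.card ((E (wprod ml w)).map RuOrder.H.subtype) ≤ N := by
    refine ub_sound (K := 12) (by norm_num) l _ _ h _ ?_ ?_
    · rintro _ ⟨x, -, rfl⟩
      exact x.2
    · rintro _ ⟨x, hx, rfl⟩ m hm'
      obtain ⟨k, hk⟩ := hm m hm'
      exact inv_of_mem_E hk hx
  rwa [Nat.card_congr ((E (wprod ml w)).equivMapOfInjective RuOrder.H.subtype RuOrder.H.subtype_injective).toEquiv]

theorem two_mul_card {G : Type*} [Group G] [Finite G] {g s : G} (hs : s * g * s⁻¹ = g⁻¹) (hg : g⁻¹ ≠ g) :
    2 * Nat.card ↥(centralizer ({g} : Set G)) ≤ Nat.card ↥(E g) := by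
  have hC : ∀ c : ↥(centralizer ({g} : Set G)), (c : G) * g * (c : G)⁻¹ = g := by
    intro c
    have := mem_centralizer_singleton_iff.1 c.2
    rw [this]
    group
  have hS : ∀ c : ↥(centralizer ({g} : Set G)), s * (c : G) * g * (s * (c : G))⁻¹ = g⁻¹ := by
    intro c
    rw [show s * (c : G) * g * (s * (c : G))⁻¹ = s * (c * g * (c : G)⁻¹) * s⁻¹ by group, hC, hs]
  let f : ↥(centralizer ({g} : Set G)) ⊕ ↥(centralizer ({g} : Set G)) → ↥(E g) :=
    Sum.elim (fun c => ⟨(c : G), Or.inl (hC c)⟩) (fun c => ⟨s * (c : G), Or.inr (hS c)⟩)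
  have hf : Function.Injective f := by
    rintro (c | c) (d | d) h
    · have h1 : (c : G) = d := congrArg (fun z : ↥(E g) => (z : G)) h
      rw [Subtype.ext h1]
    · have h1 : (c : G) = s * d := congrArg (fun z : ↥(E g) => (z : G)) h
      have h2 := hS d
      rw [← h1, hC c] at h2
      exact absurd h2.symm hg
    · have h1 : s * c = (d : G) := congrArg (fun z : ↥(E g) => (z : G)) h
      have h2 := hS c
      rw [h1, hC d] at h2
      exact absurd h2.symm hg
    · have h1 : s * (c : G) = s * d := congrArg (fun z : ↥(E g) => (z : G)) h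
      rw [Subtype.ext (mul_left_cancel h1)]
  have h1 := Nat.card_le_card_of_injective f hf
  rwa [Nat.card_sum, ← two_mul] at h1

/-- the element is not conjugate to its inverse -/
theorem not_isConj_inv {G : Type*} [Group G] [Finite G] {g : G} {n : ℕ} (h : Nat.card ↥(E g) ≤ n) (hn : n ≤ orderOf g)
    (hg : g⁻¹ ≠ g) : ¬ IsConj g g⁻¹ := by
  intro hc
  obtain ⟨s, hs⟩ := isConj_iff.1 hc
  have h1 := two_mul_card hs hg
  have h2 : orderOf g ≤ Nat.card ↥(centralizer ({g} : Set G)) := by
    rw [← Nat.card_zpowers]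
    apply Nat.card_le_card_of_injective (fun x : zpowers g => (⟨x, by
      obtain ⟨k, hk⟩ := mem_zpowers_iff.1 x.2
      rw [mem_centralizer_singleton_iff, ← hk]
      exact (Commute.refl g).zpow_left k⟩ : ↥(centralizer ({g} : Set G))))
    intro x y hxy
    exact Subtype.ext (congrArg (fun z : ↥(centralizer ({g} : Set G)) => (z : G)) hxy)
  have h3 : 0 < Nat.card ↥(centralizer ({g} : Set G)) := Nat.card_pos
  omega

/-! ### representatives -/

/-- commutator and product of four involutions -/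
def Good {G : Type*} [Group G] (g : G) : Prop := IsC g ∧ I4 g

theorem i4_of_isConj {G : Type*} [Group G] {g h : G} (hg : I4 g) (e : IsConj g h) : I4 h := by
  obtain ⟨a, b, c, d, ha, hb, hc, hd, rfl⟩ := hg
  obtain ⟨x, rfl⟩ := isConj_iff.1 e
  have key : ∀ y : G, y * y = 1 → x * y * x⁻¹ * (x * y * x⁻¹) = 1 := by
    intro y hy
    rw [show x * y * x⁻¹ * (x * y * x⁻¹) = x * (y * y) * x⁻¹ by group, hy]
    group
  exact ⟨_, _, _, _, key a ha, key b hb, key c hc, key d hd, by group⟩

theorem i4_inv {G : Type*} [Group G] {g : G} (hg : I4 g) : I4 g⁻¹ := by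
  obtain ⟨a, b, c, d, ha, hb, hc, hd, rfl⟩ := hg
  refine ⟨d, c, b, a, hd, hc, hb, ha, ?_⟩
  have key : ∀ y : G, y * y = 1 → y⁻¹ = y := fun y hy => inv_eq_of_mul_eq_one_left hy
  rw [mul_inv_rev, mul_inv_rev, mul_inv_rev, key a ha, key b hb, key c hc, key d hd]
  group

theorem Good.of_isConj {G : Type*} [Group G] {g h : G} (hg : Good g) (e : IsConj g h) : Good h :=
  ⟨hg.1.of_isConj e, i4_of_isConj hg.2 e⟩

theorem Good.inv {G : Type*} [Group G] {g : G} (hg : Good g) : Good g⁻¹ := ⟨hg.1.inv, i4_inv hg.2⟩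

/-- `[t u, b]` with involutions `t, u` -/
theorem good_a {G : Type*} [Group G] {t u b : G} (ht : t * t = 1) (hu : u * u = 1) :
    Good (t * u * b * u * t * b⁻¹) := by
  have ht' : t⁻¹ = t := inv_eq_of_mul_eq_one_left ht
  have hu' : u⁻¹ = u := inv_eq_of_mul_eq_one_left hu
  refine ⟨⟨t * u, b, ?_⟩, ⟨t, u, b * u * b⁻¹, b * t * b⁻¹, ht, hu, ?_, ?_, ?_⟩⟩
  · rw [mul_inv_rev, ht', hu']
    group
  · rw [show b * u * b⁻¹ * (b * u * b⁻¹) = b * (u * u) * b⁻¹ by group, hu]
    group
  · rw [show b * t * b⁻¹ * (b * t * b⁻¹) = b * (t * t) * b⁻¹ by group, ht]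
    group
  · group

/-- `[a, s]` with an involution `s` -/
theorem good_b {G : Type*} [Group G] {a s : G} (hs : s * s = 1) : Good (a * s * a⁻¹ * s) := by
  have hs' : s⁻¹ = s := inv_eq_of_mul_eq_one_left hs
  refine ⟨⟨a, s, ?_⟩, ⟨a * s * a⁻¹, s, 1, 1, ?_, hs, ?_, ?_, ?_⟩⟩
  · rw [hs']
  · rw [show a * s * a⁻¹ * (a * s * a⁻¹) = a * (s * s) * a⁻¹ by group, hs]
    group
  · group
  · group
  · group

theorem inv_b {G : Type*} [Group G] {a s : G} (hs : s * s = 1) :
    s * (a * s * a⁻¹ * s) * s⁻¹ = (a * s * a⁻¹ * s)⁻¹ := by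
  have hs' : s⁻¹ = s := inv_eq_of_mul_eq_one_left hs
  have h : (a * s * a⁻¹ * s)⁻¹ = s⁻¹ * a * s⁻¹ * a⁻¹ := by group
  rw [h, hs', show s * (a * s * a⁻¹ * s) * s = s * a * s * a⁻¹ * (s * s) by group, hs, mul_one]

theorem good_one {G : Type*} [Group G] : Good (1 : G) :=
  ⟨isC_one, 1, 1, 1, 1, by group, by group, by group, by group, by group⟩

/-- the words of a representative `[t u, b]` -/
theorem good_of {t u b b' w : List ℕ} (h : chkRel [t ++ t, u ++ u, b ++ b'] = true)
    (hw : w = t ++ u ++ b ++ u ++ t ++ b') : Good (wprod ml w) := by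
  have h1 := rel_of_chk h
  have r1 := h1 (t ++ t) (by simp)
  have r2 := h1 (u ++ u) (by simp)
  have r3 := h1 (b ++ b') (by simp)
  rw [wprod_append] at r1 r2 r3
  rw [hw]
  simp only [wprod_append]
  rw [eq_inv_of_mul_eq_one_right r3]
  exact good_a r1 r2

/-- the words of a representative `[a, s]` -/
theorem good_of_b {a a' s w : List ℕ} (h : chkRel [s ++ s, a ++ a'] = true) (hw : w = a ++ s ++ a' ++ s) :
    Good (wprod ml w) ∧ ∃ x : RuOrder.H, x * wprod ml w * x⁻¹ = (wprod ml w)⁻¹ := by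
  have h1 := rel_of_chk h
  have r1 := h1 (s ++ s) (by simp)
  have r3 := h1 (a ++ a') (by simp)
  rw [wprod_append] at r1 r3
  rw [hw]
  simp only [wprod_append]
  rw [eq_inv_of_mul_eq_one_right r3]
  exact ⟨good_b r1, _, inv_b r1⟩

theorem ne_one_of {u : List ℕ} {b : ℕ} (hb : b < 4060) (h : Nat.beq (evalK u b) b = false) : wprod ml u ≠ 1 := by
  intro h1
  have h2 := evalK_eq u ⟨b, hb⟩
  rw [h1] at h2
  have h3 : evalK u b = b := h2.symm
  rw [h3, Nat.beq_refl] at h
  exact absurd h (by decide)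

/-- **a class**: representative, bound of the centralizer, invariants -/
structure Cl where
  w : List ℕ
  c : ℕ
  p : ℕ × ℕ

/-- the facts -/
def Cl.OK (r : Cl) : Prop := Nat.card ↥(centralizer ({wprod ml r.w} : Set RuOrder.H)) ≤ r.c ∧
  (phi 2 (wprod ml r.w), phi 3 (wprod ml r.w)) = r.p ∧ Good (wprod ml r.w)

theorem ok_c {w : List ℕ} {M1 M2 M3 c p q : ℕ} {l : List St} {ms : List ℕ} (a1 : chkAdj (rpw w 1) M1 = true)
    (a2 : chkAdj (rpw w 2) M2 = true) (a3 : chkAdj (rpw w 3) M3 = true) (hM : Nat.blt M1 (Nat.pow 2 4060) = true)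
    (hp : Nat.beq (popc 12 (Nat.land M1 M2)) p = true) (hq : Nat.beq (popc 12 (Nat.land M1 M3)) q = true)
    (hms : ∀ m ∈ ms, m = M1 ∨ m = M2 ∨ m = M3) (h : run w l ms = some c) (hg : Good (wprod ml w)) :
    Cl.OK ⟨w, c, (p, q)⟩ := by
  refine ⟨card_c (fun m hm => ?_) h, ?_, hg⟩
  · rcases hms m hm with rfl | rfl | rfl
    exacts [⟨1, a1⟩, ⟨2, a2⟩, ⟨3, a3⟩]
  · rw [phi_word a1 a2 hM, phi_word a1 a3 hM, Nat.eq_of_beq_eq_true hp, Nat.eq_of_beq_eq_true hq]

theorem ok_e {w : List ℕ} {M1 M2 M3 c p q b : ℕ} {l : List Ins} {ms : List ℕ}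
    (a1 : chkAdj (rpw w 1) M1 = true)
    (a2 : chkAdj (rpw w 2) M2 = true) (a3 : chkAdj (rpw w 3) M3 = true) (hM : Nat.blt M1 (Nat.pow 2 4060) = true)
    (hp : Nat.beq (popc 12 (Nat.land M1 M2)) p = true) (hq : Nat.beq (popc 12 (Nat.land M1 M3)) q = true)
    (hms : ∀ m ∈ ms, m = M1 ∨ m = M2 ∨ m = M3) (h : ub 12 4060 row l ms = some (2 * c)) (hb : b < 4060)
    (h2 : Nat.beq (evalK (rpw w 2) b) b = false)
    (hg : Good (wprod ml w) ∧ ∃ x : RuOrder.H, x * wprod ml w * x⁻¹ = (wprod ml w)⁻¹) :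
    Cl.OK ⟨w, c, (p, q)⟩ := by
  have hfin : Finite RuOrder.H := Nat.finite_of_card_ne_zero (by rw [card_H]; norm_num)
  refine ⟨?_, ?_, hg.1⟩
  · have h1 := card_e (w := w) (fun m hm => by
      rcases hms m hm with rfl | rfl | rfl
      exacts [⟨1, a1⟩, ⟨2, a2⟩, ⟨3, a3⟩]) h
    obtain ⟨x, hx⟩ := hg.2
    have h3 := two_mul_card hx (by
      intro h4
      have h5 := ne_one_of hb h2
      rw [wprod_rpw, pow_two] at h5
      apply h5
      nth_rw 1 [← h4]
      exact inv_mul_cancel _)
    change Nat.card ↥(centralizer ({wprod ml w} : Set RuOrder.H)) ≤ c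
    omega
  · rw [phi_word a1 a2 hM, phi_word a1 a3 hM, Nat.eq_of_beq_eq_true hp, Nat.eq_of_beq_eq_true hq]

end Cfsg.Agent.H51.Ore.Ru

private theorem dce_2e246f5957e0 : _root_.True := by
  try have : _root_.True := by simp only [_root_.Cfsg.Agent.H51.Ore.Ru.phi.eq_1]
  try have : _root_.True := by simp only [_root_.Cfsg.Agent.H51.Ore.Ru.rpw.eq_1]
  try have : _root_.True := by simp only [_root_.Cfsg.Agent.H51.Ore.Ru.rpw.eq_2]
  try have : _root_.True := by simp only [_root_.Cfsg.Agent.H51.Ore.Ru.rpw.eq_def]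
  exact _root_.True.intro
end

-- part: H51/Ore/Ru/C10a_mg
section
set_option linter.all false

-- part: H51/Ore/Ru/C10a
section
/-!
# The classes of the Rudvalis group: class 10a (helper51)

Generated certificates: for a representative `w` the masks of the points adjacent to their images under `w`, `w²`, `w³`,
a bound of the centralizer, the invariants, and the form of a commutator.
-/

set_option autoImplicit false
set_option maxRecDepth 100000
set_option exponentiation.threshold 5000

namespace Cfsg.Agent.H51.Ore.Ru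

open Cfsg.Agent.Lib Cfsg.Agent.Lib.BitNet Cfsg.Agent.SporadicB Cfsg.Agent.SporadicB.RuData
open Cfsg.Agent.SporadicB.RuOrder Cfsg.Agent.RuD.Data Cfsg.Agent.SporRec.TCUpperCert Cfsg.Agent.SporRec.R3.Kernel
open Cfsg.Agent.RuD.Letters Cfsg.Agent.KFacts.Ru.CentEng Cfsg.Agent.CpAutRuFive.Eng

/-! ### class 10a -/

def m1_10a : ℕ := 0x362e7eed0963687a4031bf2b9568d13062000c864fe1e560214483294fc8256301ed65b954c20a4ec806942b46198858b235162f2305284635c3c666a0c9a8240908454e302acc33111ecabb1534dff8b0020009549c04681110df4d60dbd83dc65777f21390f857a1428867035b48fc2cbdeb5b5c63b79512d4045489e2cc65b0398a672b263703da26af507362dee9781deb72e43349168c382662ebde2ae4dfe4225b29164fe459a1dc29053f04da778b580695282a5c41c52c8c0744c9a7db7a62ca627d733b113efd143b2a879ea64ff6a0804b018b8147c14026c6884156b483af499e244023a2238e4b0a156ea569b61b133216118559b76c0a43924e76711dfa9a8c96272bdeb8415050e8d21abc59640238913d424c1e8142944d0004005050edf205322a5342d40c10057d5837743b40cd043398ad08e194e8ca318b357c90446c40460847650f1b08a6976220bf487a80022e1e9c9309eb01b393eb79faa00f17761e740990ca1544c29f23a75356f62ca9cea0a7f05ade98213612c1e55cd35959127418074c780d84406125012b99f25414a928900b97766e70d824bd6d149087959404289475f34b2571554731f2b54a5f1768bb2225e2144fd9e996d530a080906549ba95eccecac41e9c4d9be37aed2a290f9db8817b5b242e1c6962bf7282783eb7af91dc427ce14a9cce50f1cb8f81526ef10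

def m2_10a : ℕ := 0xa20c1c1c4c505801086acf304c9c5f149f77c50402412146da408472188000be6d5a1307d404213c2611890726b944012ac02b5326f113ef962436fd2211008ce6fa19a490185c01774ea0064253066828a2624a00096302088405091197c458062632881e04504f7e6d44ca048e8481aca0b0704d39aacae2e468678b88b3c42068820d098d08041a0e967480c48011a0f5195044601471c0001ea2a6c02131a80bace29142182a49454d082db160414b300c8d5c351d0cdfe18e59a010ec3145403c84442a104b1418d199620449410ae418000074461005099106358812051ee854704583009a22026e00d0deaaa045617352240e9080e24ba8fe10138b458523fa3e434622a47c1ab249b1066e2098594d500800e219b8588792a42870b826ba82805b19b01805d486631027c1387ed8622d946f18d41c008315c508c69a16241198b04241082b1240d39c0023115251c4d3501ac01481a1c180404a0480a53602c4090466e8111dc2154474cc29408188d2fb856ca4bacd9036810004509ba0070f9c9210194bfbef8500a0305f2428774841021c62a0953258ab819fa5001c983e9c100f1b03004c82845198c088087cc714802306414009a8491a8261c20439730f780686f501829ec3c488ae928041c3403647dec42e76a2e0692282400c40a61422096412746014d4135fe962912199d3a0b8380e1a447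

def m3_10a : ℕ := 0x30224e03a20257946c24acbab384138e001a8024562c142c371fd42efc14d7aa984622930c641528ba15817cb01bdd1b834d8251f63120f7841a75eb3e4c22e50a2afc92b240d3080829eb011cb7f7ee238146b1ccca7180bd07c64fdeb5f2c65071478e1946a38150d0055e155497e4619079fd2609c931375167a8ae35926226a8a68632329ca8340a940016b82cec4556d5e8726e9464f7e3c7c9573aa84d7b8b2534ab78354f2f875b9a9ef640a3183d526069c1c5942b500014470e76faace03e2482cf124049ec9de51a0b74ee534f4ad205d0d0d2a4d91d265fdf8b82610ca463a2ba45ac1df21382a532c4c30a7862812b9d9e8c8a1ea2f9a88202a5d201041ccc4147561ac4c865366db608e057115253512140e77ac240b1d0b2481127a45c5539970427a42dd1be2455ed83748378406c401588dad10183ac173a8b761c06785457640744f6c9b50a902aba909ce3a844aa19756905d8241233b2909d8219f34b63d1772204fe4a100ee3e26463a331ea58a21ad2fedd7096d5411e1a50ec0458d06ac10445efced927e41250023c1e8831d33a1607a43862083f82cce3791b0b65754282e85415629a77475211392094f789f11961a199ac7ff535c66d778b0a1340442e5a5aa5d8b039c98ed7f015622cd99a78b5a1870fe4532b9c352bf56f04a6cb24d92f136f2a435305c9a458bbb93c065daa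

def i_10a : List St := [
  .and 1 1, .and 0 1, .diff 0 4, .cnt 3 827, .and 0 1, .base 0 236, .and 4 4, .and 0 4, .and 0 4, .and 0 4,
  .and 0 4, .diff 0 15, .diff 0 17, .pt 0 766, .and 7 7, .diff 0 25, .and 0 4, .diff 0 26, .and 0 8, .diff 0 6,
  .pt 0 3517, .and 29 29, .and 0 16, .and 0 23, .pt 0 2848, .and 17 17, .and 0 3, .diff 0 25, .pt 0 2381]

/-- representative -/
def w_10a : List ℕ := [0, 2, 1, 8, 2, 0, 4, 6]

theorem a1_10a : chkAdj (rpw w_10a 1) m1_10a = true := by decide +kernel
theorem a2_10a : chkAdj (rpw w_10a 2) m2_10a = true := by decide +kernel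
theorem a3_10a : chkAdj (rpw w_10a 3) m3_10a = true := by decide +kernel
theorem r_10a : run w_10a i_10a [m1_10a, m2_10a, m3_10a] = some 20 := by decide +kernel
theorem g_10a : Good (wprod ml w_10a) :=
  good_of (t := [0]) (u := [2]) (b := [1, 8]) (b' := [4, 6]) (by decide +kernel) rfl

/-- **the class 10a** -/
theorem ok_10a : Cl.OK ⟨w_10a, 20, (700, 1020)⟩ :=
  ok_c a1_10a a2_10a a3_10a (by decide +kernel) (by decide +kernel) (by decide +kernel)
    (by simp) r_10a g_10a

end Cfsg.Agent.H51.Ore.Ru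
end

-- part: H51/Ore/Ru/C13a
section
/-!
# The classes of the Rudvalis group: class 13a (helper51)

Generated certificates: for a representative `w` the masks of the points adjacent to their images under `w`, `w²`, `w³`,
a bound of the centralizer, the invariants, and the form of a commutator.
-/

set_option autoImplicit false
set_option maxRecDepth 100000
set_option exponentiation.threshold 5000

namespace Cfsg.Agent.H51.Ore.Ru

open Cfsg.Agent.Lib Cfsg.Agent.Lib.BitNet Cfsg.Agent.SporadicB Cfsg.Agent.SporadicB.RuData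
open Cfsg.Agent.SporadicB.RuOrder Cfsg.Agent.RuD.Data Cfsg.Agent.SporRec.TCUpperCert Cfsg.Agent.SporRec.R3.Kernel
open Cfsg.Agent.RuD.Letters Cfsg.Agent.KFacts.Ru.CentEng Cfsg.Agent.CpAutRuFive.Eng

/-! ### class 13a -/

def m1_13a : ℕ := 0x7457ad6568acc10b0111050437843213809383663f29a0c534880c09be0004421624045f075e615a1b482cfca100bf2674c54404f4ddf604879de5a4e529307464000a10142898d5e4bf420401557f0dace6c019d7a0b94341425c62d041ab9a20010d01205a0ac2943e128d0025f045b2c143911ea104c7890607d63309516018425458052f0cd07144450c95a06bd39e80511b118328af5203e20804c2881e22f97bfa6e12110410ee0b24288c1a24068a854441a54002134a513906801d401f1c91c816b3e8016a44400011345205ea600530cf01282716cd1099404c1822e4be89132c948834c106d755f5065c4900438a01d43560c49adc0a1977c2ce1905474ef295cc880822c504182c242447137e0a421dc9ab03c12f2801ac0140a1d581da718474daea0246600079204809cc400963950642cd065ce5a22b7570ae569ed1d80cf4421424251c4317c88a1d608856326949e2442da0a04093c2619580b799c2ba1359322682891606fcc88104450e15df0053b4f8408b5724ab382be8ba18c4640033d22ad8c1101626c0c2a6cc6cc02fcca834da00c870340221f058af1154607248c4618f4aa465d64240118fc7950ae95741de246c420b03943dc39c409943016351120ad0162e79471d5440a49072b151d44946c089914628c78300299b689b0665014841e0da498200801102a588600014819a2b0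

def m2_13a : ℕ := 0x8ba0129b02333c7a30dbbac1c0021b00536835304446c9a2b040428048520185039cc9c92a231882e4258183768a7df88010118d120284811466b207c09234219005418860430ea00007bc20783069484083820420911492250315066113c995fe6af24212042357e0c7a42ed804099619b9061fd082a314e60828991b9228e7216d0b1de8b097b3325f8a4226a6b7d961338800e8601c50340a91f6c2945af4d900129d004011d6491188856c26275a4911628318e28b9dc2d2fc5a331ec8f8ea4808af69541d921951ed84c0e8b114361c69405c4b521011802804138022181b5914a440883480dd14284a00eca3079b59b518238a5c462822600c5e1928e31f4aa805aa214b89940a3a0101b248a082a0114c9229d63038905be4063e50d42b0bf4f5198b8182871aaefe301783e0919b0bb42be012906cec1396704a4fca6854b90d71074c799b0f20808a05410234698a12bf840a4c03bb4b58a41012caad0a449482323ec90455647c51a0159cab8ba4221e687b6e0a5c321bac71514c520107398bc54c10a5e40229700908592025ae27a8054f2105ae418c08a2003401580a2f068456a0bc128108007a09a3620174ad5830a93400029a8920c66f844940b747eade562a244f048dd12088aa30161606097004af5419bcb94851838894024004b5a05d111f12a858094450db8023459273b92031ce0fc47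

def m3_13a : ℕ := 0x5328243500988042f51249718540e80053b0ea446b28762900bd342c67b804c60074400c01cbe664bc2f894ad204945664fe0300b14d58acb0c92400e4412a97b04444a414221564f6bac54117e41211160441511712a25546808ec27a99010041011690895899119014132457f3c2a3c2dc0c48c925145169220b0ccacae000ba527462668a1420a424cd08c78050000a214943986148c506936015405a00c84bf72b4a24104853083b112a024800e026023cc5c0142d5b035dc1240380007cdd03a8621aa7f0030d3c48021e70620a84fa6f9081003333877670976246aa4b52821641431c8074220ad38650d0066c60160969d43eba21b7e879380940f4207917e6a05680b18707852032b9002475816b0b4c08d36f00dfce08b0a4b36cb972380278a576c608768910c8c2314c53e4932f12500c1659c210a67450802127ec010434257212561740078b0d18cc8c4220bb280aee2a02015269dc209b275d42553122b623073361a2f98d06b04a3a2a628cbc9450340a612aa850c84f2805cbef609647097fae2b08a6c126086482066011c01d2892578832cf20323c0a3c78f7a33358c313059043423dc28c936bf990b131064520495680c2c203d134b9dc680b9c300b84568200102208ca1a6726421f958aa2909d0d0e2809001ccc203334b9c85d5f49406af203a19f0866cad0348cc7ae59040483d4a90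

def i_13a : List St := [
  .and 1 1, .diff 0 3, .diff 0 2, .cnt 5 691, .and 0 1, .base 0 96, .and 5 5, .and 0 5, .and 0 4, .and 0 4,
  .pt 0 2981, .and 14 14, .and 0 12, .and 0 11, .and 0 3, .pt 0 1587, .and 6 6, .and 0 20, .diff 0 13, .pt 0 3292,
  .and 32 32, .and 0 28, .and 0 22, .diff 0 40, .and 0 12, .diff 0 35, .diff 0 32, .pt 0 642]

/-- representative -/
def w_13a : List ℕ := [2, 0, 3, 1, 0, 2, 6, 7]

theorem a1_13a : chkAdj (rpw w_13a 1) m1_13a = true := by decide +kernel
theorem a2_13a : chkAdj (rpw w_13a 2) m2_13a = true := by decide +kernel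
theorem a3_13a : chkAdj (rpw w_13a 3) m3_13a = true := by decide +kernel
theorem r_13a : run w_13a i_13a [m1_13a, m2_13a, m3_13a] = some 52 := by decide +kernel
theorem g_13a : Good (wprod ml w_13a) :=
  good_of (t := [2]) (u := [0]) (b := [3, 1]) (b' := [6, 7]) (by decide +kernel) rfl

/-- **the class 13a** -/
theorem ok_13a : Cl.OK ⟨w_13a, 52, (416, 728)⟩ :=
  ok_c a1_13a a2_13a a3_13a (by decide +kernel) (by decide +kernel) (by decide +kernel)
    (by simp) r_13a g_13a

end Cfsg.Agent.H51.Ore.Ru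
end

-- part: H51/Ore/Ru/C26c
section
/-!
# The classes of the Rudvalis group: class 26c (helper51)

Generated certificates: for a representative `w` the masks of the points adjacent to their images under `w`, `w²`, `w³`,
a bound of the centralizer, the invariants, and the form of a commutator.
-/

set_option autoImplicit false
set_option maxRecDepth 100000
set_option exponentiation.threshold 5000

namespace Cfsg.Agent.H51.Ore.Ru

open Cfsg.Agent.Lib Cfsg.Agent.Lib.BitNet Cfsg.Agent.SporadicB Cfsg.Agent.SporadicB.RuData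
open Cfsg.Agent.SporadicB.RuOrder Cfsg.Agent.RuD.Data Cfsg.Agent.SporRec.TCUpperCert Cfsg.Agent.SporRec.R3.Kernel
open Cfsg.Agent.RuD.Letters Cfsg.Agent.KFacts.Ru.CentEng Cfsg.Agent.CpAutRuFive.Eng

/-! ### class 26c -/

def m1_26c : ℕ := 0xc19818ab8bb40eb312d27ed1ad1ac1c51f18f4d1b05c6942ca48484280622948382cb79949fb3da1128d614c06f914bf85a300c3fa2b50c92152f218e2c3279b382d01e1f64133a8347ef4a8ec3980b741244456302040a14ca5270651094f04d4e0561d9064198ce65ca936e97089c200ebe01cc21bd55a7ca0f0400b94d813aae86485ecd3cd22ba0698da05889488e95288915271dcc5668338655235d7629b09675c30c024c0cf703330a422d05a7816baa77256ebde4b6ece6353aa64fe5cd3c903bb06ba9b9cb1e98ec2b861889464a9a810543cd030cc5b84692994da131515682048272f1c70a81901792a243208b732a78d39a47441423c245b00825f0b8ae518b9df96ac2998e39b0e7aa6a3f7e9debad54ec879f4abee778dcef53018747011b1ca6c83128fc50456ae48949109d2ac433650e3a36154309b17466de82300756397f2defaeb88fd411166444393818eac6ac2a3424be515f0d2e91b384603c7b727c815716c2d01b04b2bc5cbb606974a3e4a443a943cc9c37d576a4f7c383964f601e504ea79628128fc717312974833601d41976398498480774ed8a267c6843422bc0343623229fcea7eb1207bf14ab4dc4ef72001222f4d8cea00e82a98df158c05843c87c004bca2a0641e56142c01cf94113f3b8a32817cb416e8fc84677a92da79d908aa1cd8a28e0886a9ba48756c9085843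

def m2_26c : ℕ := 0x8ba0129b02333c7a30dbbac1c0021b00536835304446c9a2b040428048520185039cc9c92a231882e4258183768a7df88010118d120284811466b207c09234219005418860430ea00007bc20783069484083820420911492250315066113c995fe6af24212042357e0c7a42ed804099619b9061fd082a314e60828991b9228e7216d0b1de8b097b3325f8a4226a6b7d961338800e8601c50340a91f6c2945af4d900129d004011d6491188856c26275a4911628318e28b9dc2d2fc5a331ec8f8ea4808af69541d921951ed84c0e8b114361c69405c4b521011802804138022181b5914a440883480dd14284a00eca3079b59b518238a5c462822600c5e1928e31f4aa805aa214b89940a3a0101b248a082a0114c9229d63038905be4063e50d42b0bf4f5198b8182871aaefe301783e0919b0bb42be012906cec1396704a4fca6854b90d71074c799b0f20808a05410234698a12bf840a4c03bb4b58a41012caad0a449482323ec90455647c51a0159cab8ba4221e687b6e0a5c321bac71514c520107398bc54c10a5e40229700908592025ae27a8054f2105ae418c08a2003401580a2f068456a0bc128108007a09a3620174ad5830a93400029a8920c66f844940b747eade562a244f048dd12088aa30161606097004af5419bcb94851838894024004b5a05d111f12a858094450db8023459273b92031ce0fc47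

def m3_26c : ℕ := 0x64c703a02380001cc0052a2f2dbc10fe3d1c0b62881da7956df18d4030ce3941264b33621b58694f5bc846d48471a98f97c0c6ebaa2c8456cbc819c80023d9706459065df2a4f22eaf6943a5a345a7a76f46e41ff10ee96c603ef8818fa0e6bda5544c2d09474a080aba3a51a0aafc3c1160292300ffc4df9896d780b441565a1cb2c523b716ea9a09e1794ec970450a6196c0c937eb27ad7c21ab003d219d1726f715263dac27e1c1eaac6b91abcaa29457843846c3003479091a37c8c8069304c4d709921f7275c29abc0c4497d117bcc1a243cfb7a58cc6560b5d8c404ca0812d2fbab7cea743e6d59c2cac2e09574aa424d7e7f4725859d5009041a51610306156a3059144388f11c9d96c74a2d565c2c8b1cbec89674106941e3a00830bdded2b0374c14fcf2885338562203ad72e2464533bdf68c512c504a31546a01c9423b0c04c498b8566b1c844edb928f0e21f54f9c48ba4ad5e2c7421c4a87427c01a4ebb698c0b2c304b1cc2ac52e908c57460cde937807948419fe732b2a79d0c3a8820100830315440dd249bf7c1a25bcd64b9f0dfd05e19c9bc9bd7108f836e861450fbade99915a9e836f8a72af051c248d4bdea8457677104708604502a933300b044edf809d2baa853c23f20d9cae1e171c68b6020f49091e200be5d11408040a98289a4ab99cc154c66ebae34408510618c2e8b8e21f4ab1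

def i_26c : List St := [
  .and 1 1, .and 0 1, .diff 0 4, .cnt 4 674, .and 0 1, .base 0 91, .and 5 5, .diff 0 4, .diff 0 3, .and 0 7,
  .and 0 4, .cnt 1 3, .and 0 1, .pt 0 1858, .and 7 7, .and 0 1, .pt 0 3061, .and 24 24, .diff 0 24, .diff 0 2,
  .diff 0 4, .pt 0 3155, .and 34 34, .and 0 23, .and 0 33, .and 0 13, .and 0 33, .pt 0 3376]

/-- representative -/
def w_26c : List ℕ := [2, 0, 3, 8, 1, 0, 2, 6, 4, 7]

theorem a1_26c : chkAdj (rpw w_26c 1) m1_26c = true := by decide +kernel
theorem a2_26c : chkAdj (rpw w_26c 2) m2_26c = true := by decide +kernel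
theorem a3_26c : chkAdj (rpw w_26c 3) m3_26c = true := by decide +kernel
theorem r_26c : run w_26c i_26c [m1_26c, m2_26c, m3_26c] = some 52 := by decide +kernel
theorem g_26c : Good (wprod ml w_26c) :=
  good_of (t := [2]) (u := [0]) (b := [3, 8, 1]) (b' := [6, 4, 7]) (by decide +kernel) rfl

/-- **the class 26c** -/
theorem ok_26c : Cl.OK ⟨w_26c, 52, (884, 780)⟩ :=
  ok_c a1_26c a2_26c a3_26c (by decide +kernel) (by decide +kernel) (by decide +kernel)
    (by simp) r_26c g_26c

end Cfsg.Agent.H51.Ore.Ru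
end
end

-- part: H51/Ore/Ru/C6a
section
set_option linter.all false

/-!
# The classes of the Rudvalis group: class 6a (helper51)

Generated certificates: for a representative `w` the masks of the points adjacent to their images under `w`, `w²`, `w³`,
a bound of the centralizer, the invariants, and the form of a commutator.
-/

set_option autoImplicit false
set_option maxRecDepth 100000
set_option exponentiation.threshold 5000

namespace Cfsg.Agent.H51.Ore.Ru

open Cfsg.Agent.Lib Cfsg.Agent.Lib.BitNet Cfsg.Agent.SporadicB Cfsg.Agent.SporadicB.RuData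
open Cfsg.Agent.SporadicB.RuOrder Cfsg.Agent.RuD.Data Cfsg.Agent.SporRec.TCUpperCert Cfsg.Agent.SporRec.R3.Kernel
open Cfsg.Agent.RuD.Letters Cfsg.Agent.KFacts.Ru.CentEng Cfsg.Agent.CpAutRuFive.Eng

/-! ### class 6a -/

def m1_6a : ℕ := 0x4bc4e01ef35b4168744e65adc63427ce61bc04d63ecb39484b7fe80747885a812af22492fc2c68ec67d5eefab75114c14d022acc60021db9079fb6bfe05900cc50af4b24b3027c188cd90e33037a4cdd02eac9c2812a56de9bc3b0133a950f33a537a3d453ff604c9902a7e703841493115d006801f8c212630d3423431710484688004e968a9d501ba3aefc60992dcb115f58e50182560884a12403b87e0d8d210e0d170a82b66fba3812a6def69266edcb5a3394b36beb3b83aa59154cbab11c497829f20afcec02600b553849819c42e441c53016ad91b919a88ed52c415c62459b855340d87038084cc869239c88ac76d02b2c2136a19c47ec20426269040e7453812cc8de3d180295a2f3aa2b746390d716fb6360499104b06c72c81d4a70102e823200124b03d02f7956f083c721050e7801ce5c162c067a4b7a06645a480ac3081a389a68966da8b96471d74306114a010005d478f864182123c3e9d28825f173dd625c7143875f20120b6168072d970c4ec5662629da8be8044b8a47b8002396d15a497a066aded000caf5c5ecb98222e01ff1ed9e0d5041e0298c57a1cbd3078da4202d39a148a2b7ca0041b0ab631a487e659f4186ec9a4d360030454d9c2de8f5388484c659046a88c2652a86acc29b70347d6065791218c0793b5630232deaf848801805b3a6422d191673e88219aaac087247b731e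

def m2_6a : ℕ := 0x64ce19448d74ba89b3a43e3f5a51d8b70403bb88c8fd3de3843202b8e13802243784913ec040d7c58a8a1d66495ed8c565dccc454f2dc6cbde95298a74dd3942a4025d9eb4d9a57d10c201bdd7e13c358f44f6bc1e27a803d418098471e094a22cfe31a9dc84f5d474036e205248adad696494c0e672b24ed6b744583ce73fe8b3c59eb211076055b09873d7797ad8444a235446ee0c9d3782adf7992550e88ceb37a923357e4e14aa76aeb8820534f8395a622ea582290c8aaa174e703233a5c0724397a8f12988ac8e6f957854f92039baa124895c21eedd4ee400ba93345ad918408265c5ee74fbd66210186ea738d99b48dc0dc2c94b26e8031152a6c47f2c67081043533052a8060fba5c29a7989ab46e46331104371bfa02a52a106c495fed87ed8076c39872d7033813019cd814ab63462fed01884d9dd992ac29fa0df284d024f480c2d2ae3d536bb5bd9b400d3cee4015f9f32c3f1fc01d994a92297247de7f405ae6339735795f49e4439949922a3891269c81cce88c58fd40285263cbd0eeece2b9d91541e9b517b20fc817445d550b7cb2ab0bc571313b8a90865c278f3e764a9040b543240df8bfef35749482ccf7647e789524611daca5c705a03c0b308d3929692728259aa454711a97978108e196414cc14642f447a3968165eca8bccd1692b16a0f49e4fc12f0f979724c101f837b24813ac40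

def m3_6a : ℕ := 0x3c02ab63cb657b99c80ead986561a621ea6e5cd17ecb40b5a52d63648fafd1308b38a9270e8f8c74ab0250d8744628a7199e8224172bdef3f9c1bd40430b895c7e2a001601c7512c7d6fcec8004a4080d7fb0a8d8ca8c7df07b53082313678f5950a38bba1f3c7591849e8eadd3a5ed642838276f8ab7e20819838e3199adc01215c6400b560c8340388414060c58b3611dcc7674b43aa5f1092758449af427bf93b741a693f931d0559280bbd6c0856d11731b3d0901a3c815fcddcc11013a7a67d8f0854fed504cadbf8804824e0904a89e13f859aa9772b19972c167b4b187b70079e0a5bb8cd46e6205ce39ca586f401883e637ef2a6b6a2a351738a3dc163bad3002bad56cec9eabdc606bc9441bd34809b4d58c95ebddf7700797305b4f618740a214c7af9854f65953f1e33fbd1dcfe7c8c38b882a10b1f98546c18cb27cf55100b128e4e7b7cfaf8fd7662b7576b78840dda82001218faa4ac25350300af03dc973895d8c04eb70a3f25c929401918ff2219e715a7d689cbc39c068c1f6dc9d75a28af520fdc5798bee7680e31fb688ee5d3e2c06140b407bc2612dc77d4b6fb06f5096c886104af3bdc6d3d0807c24317260a4896d05ce4e3a7df81dcefdc11b4cc31db9430dc50668c3bf2b349540398d4140c7ec4b79656e3a566721182a8887d092c1222a05004551d2e35498a1d3b137b5ee609f3e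

def i_6a : List St := [
  .and 1 1, .diff 0 3, .diff 0 2, .cnt 3 772, .and 0 1, .base 0 173, .and 7 7, .and 0 4, .and 0 2, .diff 0 7,
  .diff 0 6, .diff 0 6, .cnt 16 770, .and 0 1, .pt 0 3381, .and 6 6, .and 0 24, .and 0 4, .and 0 3, .diff 0 21,
  .pt 0 3942, .and 8 8, .and 0 14, .and 0 3, .diff 0 3, .pt 0 1186, .and 25 25, .and 0 24, .and 0 23, .and 0 37,
  .and 0 36, .diff 0 41, .pt 0 3870, .and 7 7, .and 0 1, .diff 0 4, .pt 0 707]

/-- representative -/
def w_6a : List ℕ := [5, 0, 7, 0, 5, 3]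

theorem a1_6a : chkAdj (rpw w_6a 1) m1_6a = true := by decide +kernel
theorem a2_6a : chkAdj (rpw w_6a 2) m2_6a = true := by decide +kernel
theorem a3_6a : chkAdj (rpw w_6a 3) m3_6a = true := by decide +kernel
theorem r_6a : run w_6a i_6a [m1_6a, m2_6a, m3_6a] = some 48 := by decide +kernel
theorem g_6a : Good (wprod ml w_6a) :=
  good_of (t := [5]) (u := [0]) (b := [7]) (b' := [3]) (by decide +kernel) rfl

/-- **the class 6a** -/
theorem ok_6a : Cl.OK ⟨w_6a, 48, (714, 864)⟩ :=
  ok_c a1_6a a2_6a a3_6a (by decide +kernel) (by decide +kernel) (by decide +kernel)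
    (by simp) r_6a g_6a

end Cfsg.Agent.H51.Ore.Ru
end
end
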